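import Mathlib

/-!
# The Cayley transform

`Cay g N` : `g * (1 - N) = 1 + N` and `g` commutes with `N`.
-/

set_option autoImplicit false

namespace Cfsg.Agent.H194.Cayley

section Ring

variable {R : Type*} [Ring R] {g N : R}

/-- `g` is the Cayley transform of `N` -/
structure Cay (g N : R) : Prop where
  mul : g * (1 - N) = 1 + N
  comm : Commute g N

theorem Cay.add_mul (h : Cay g N) : (g + 1) * (1 - N) = 2 := by
  rw [_root_.add_mul, h.mul, one_mul, ← one_add_one_eq_two]
  abel

theorem Cay.mul_add (h : Cay g N) : (1 - N) * (g + 1) = 2 := by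
  have h1 : Commute (g + 1) (1 - N) := by
    have h2 : Commute (g + 1) N := h.comm.add_left (Commute.one_left N)
    exact (Commute.one_right _).sub_right h2
  rw [← h1.eq, h.add_mul]

theorem Cay.eq_sub (h : Cay g N) : (g + 1) * N = g - 1 := by
  have h1 := h.mul
  rw [mul_sub, mul_one] at h1
  rw [_root_.add_mul, one_mul]
  have h2 : g * N = g - (1 + N) := by rw [← h1]; abel
  rw [h2]; abel

theorem Cay.unique (h2 : IsUnit (2 : R)) (h : Cay g N) {N' : R} (h' : Cay g N') : N = N' := by
  have h1 : (g + 1) * N = (g + 1) * N' := by rw [h.eq_sub, h'.eq_sub]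
  have h3 : (2 : R) * N = 2 * N' := by
    rw [← h.mul_add, mul_assoc, h1, ← mul_assoc]
  exact h2.mul_left_cancel h3

theorem exists_cay (h2 : IsUnit (2 : R)) {k : ℕ} (hg : (g - 1) ^ k = 0) : ∃ N, Cay g N ∧ N ^ k = 0 := by
  have hnil : IsNilpotent (g - 1) := ⟨k, hg⟩
  have hu : IsUnit (g + 1) := by
    have h1 : g + 1 = (g - 1) + 2 := by rw [← one_add_one_eq_two]; abel
    rw [h1]
    have hc : Commute (g - 1) (2 : R) := by
      rw [← one_add_one_eq_two]
      exact (Commute.one_right _).add_right (Commute.one_right _)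
    exact hnil.isUnit_add_right_of_commute h2 hc
  obtain ⟨t, ht⟩ := hu
  have hgt : Commute g (t : R) := by
    rw [ht]
    exact (Commute.refl g).add_right (Commute.one_right g)
  have hgt' : Commute g ((t⁻¹ : Rˣ) : R) := hgt.units_inv_right
  have hN : Commute (g - 1) ((t⁻¹ : Rˣ) : R) := hgt'.sub_left (Commute.one_left _)
  refine ⟨(g - 1) * ((t⁻¹ : Rˣ) : R), ⟨?_, ?_⟩, ?_⟩
  · apply t.isUnit.mul_right_cancel
    rw [mul_assoc, sub_mul, mul_assoc, Units.inv_mul, _root_.add_mul, mul_assoc, Units.inv_mul, one_mul, mul_one, ht]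
    have : g + 1 - (g - 1) = 1 + 1 := by abel
    rw [this, _root_.mul_add, mul_one]
    abel
  · exact ((Commute.refl g).sub_right (Commute.one_right g)).mul_right hgt'
  · rw [hN.mul_pow, hg, zero_mul]

theorem exists_of_nil {k : ℕ} (hN : N ^ k = 0) : ∃ g : R, Cay g N ∧ (g - 1) ^ k = 0 := by
  have hu : IsUnit (1 - N) := IsNilpotent.isUnit_one_sub ⟨k, hN⟩
  obtain ⟨t, ht⟩ := hu
  have hNt : Commute N (t : R) := by
    rw [ht]
    exact (Commute.one_right N).sub_right (Commute.refl N)
  have hNt' : Commute N ((t⁻¹ : Rˣ) : R) := hNt.units_inv_right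
  have hg1 : (1 + N) * ((t⁻¹ : Rˣ) : R) - 1 = (2 * N) * ((t⁻¹ : Rˣ) : R) := by
    apply t.isUnit.mul_right_cancel
    rw [sub_mul, mul_assoc, Units.inv_mul, mul_one, one_mul, mul_assoc, Units.inv_mul, mul_one, ht, two_mul]
    abel
  refine ⟨(1 + N) * ((t⁻¹ : Rˣ) : R), ⟨?_, ?_⟩, ?_⟩
  · rw [← ht, mul_assoc, Units.inv_mul, mul_one]
  · exact ((Commute.one_left N).add_left (Commute.refl N)).mul_left hNt'.symm
  · rw [hg1, mul_assoc]
    have hc : Commute (2 : R) (N * ((t⁻¹ : Rˣ) : R)) := by
      rw [← one_add_one_eq_two]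
      exact (Commute.one_left _).add_left (Commute.one_left _)
    rw [hc.mul_pow, hNt'.mul_pow, hN, zero_mul, mul_zero]

end Ring

section Form

variable {F V : Type*} [Field F] [AddCommGroup V] [Module F V] {f : V → V → F} {g N : Module.End F V}

/-- isometry to skew -/
theorem skew_of_isometry (h2 : (2 : F) ≠ 0) (hadd : ∀ x x' y, f (x + x') y = f x y + f x' y)
    (hadd' : ∀ x y y', f x (y + y') = f x y + f x y') (hg : ∀ x y, f (g x) (g y) = f x y) (h : Cay g N)
    (x y : V) : f (N x) y = - f x (N y) := by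
  have hsub : ∀ x x' y, f (x - x') y = f x y - f x' y := by
    intro x x' y
    have := hadd (x - x') x' y
    rw [sub_add_cancel] at this
    rw [this]; ring
  have hsub' : ∀ x y y', f x (y - y') = f x y - f x y' := by
    intro x y y'
    have := hadd' x (y - y') y'
    rw [sub_add_cancel] at this
    rw [this]; ring
  have hsurj : ∀ v : V, ∃ w, g w + w = v := by
    intro v
    refine ⟨(2 : F)⁻¹ • (1 - N) v, ?_⟩
    have h1 := congrArg (fun T : Module.End F V => T v) h.add_mul
    have h3 : g ((1 - N) v) + (1 - N) v = (2 : F) • v := by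
      have h4 : ((2 : Module.End F V)) v = (2 : F) • v := by
        rw [← one_add_one_eq_two, ← one_add_one_eq_two, LinearMap.add_apply, Module.End.one_apply, add_smul, one_smul]
      rw [← h4]
      exact h1
    rw [map_smul, ← smul_add, h3, smul_smul, inv_mul_cancel₀ h2, one_smul]
  have hNw : ∀ w, N (g w + w) = g w - w := by
    intro w
    have hc : (N * (g + 1)) = g - 1 := by
      have h3 : Commute (g + 1) N := h.comm.add_left (Commute.one_left N)
      rw [← h3.eq, h.eq_sub]
    exact congrArg (fun T : Module.End F V => T w) hc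
  obtain ⟨u, rfl⟩ := hsurj x
  obtain ⟨v, rfl⟩ := hsurj y
  rw [hNw, hNw]
  simp only [hadd, hadd', hsub, hsub', hg]
  ring

/-- skew to isometry -/
theorem isometry_of_skew (h2 : (2 : F) ≠ 0) (hadd : ∀ x x' y, f (x + x') y = f x y + f x' y)
    (hadd' : ∀ x y y', f x (y + y') = f x y + f x y') (hN : ∀ x y, f (N x) y = - f x (N y)) (h : Cay g N)
    (x y : V) : f (g x) (g y) = f x y := by
  have hsub : ∀ x x' y, f (x - x') y = f x y - f x' y := by
    intro x x' y
    have := hadd (x - x') x' y
    rw [sub_add_cancel] at this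
    rw [this]; ring
  have hsub' : ∀ x y y', f x (y - y') = f x y - f x y' := by
    intro x y y'
    have := hadd' x (y - y') y'
    rw [sub_add_cancel] at this
    rw [this]; ring
  have hsurj : ∀ v : V, ∃ w, w - N w = v := by
    intro v
    refine ⟨(2 : F)⁻¹ • (g + 1) v, ?_⟩
    have h1 := congrArg (fun T : Module.End F V => T v) h.mul_add
    have h3 : (g + 1) v - N ((g + 1) v) = (2 : F) • v := by
      have h4 : ((2 : Module.End F V)) v = (2 : F) • v := by
        rw [← one_add_one_eq_two, ← one_add_one_eq_two, LinearMap.add_apply, Module.End.one_apply, add_smul, one_smul]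
      rw [← h4]
      exact h1
    rw [map_smul, ← smul_sub, h3, smul_smul, inv_mul_cancel₀ h2, one_smul]
  have hgw : ∀ w, g (w - N w) = w + N w := by
    intro w
    exact congrArg (fun T : Module.End F V => T w) h.mul
  obtain ⟨u, rfl⟩ := hsurj x
  obtain ⟨v, rfl⟩ := hsurj y
  rw [hgw, hgw]
  simp only [hadd, hadd', hsub, hsub', hN]
  ring

end Form

end Cfsg.Agent.H194.Cayley
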