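import Mathlib
import Cfsg.Agent.H141.SpinFacts
import Cfsg.Agent.LieClassical.OrthFinite

/-!
# Orthonormal families over finite fields of odd order; `-1` in dimension six (helper194)

* `exists_orthonormal` : in a nondegenerate quadratic space of dimension `> k` over a finite field of
  odd order there are `k` pairwise orthogonal vectors with `Q = 1`;
* `neg_six` : if `finrank V = 6` and `-1 ∈ ⁅O Q, O Q⁆`, then `-1 = k y k⁻¹ y⁻¹` with
  `k ∈ ⁅O Q, O Q⁆`, `y ∈ O Q`.
-/

set_option autoImplicit false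

namespace Cfsg.Agent.H194.OreNegSix

open QuadraticMap Cfsg.Agent.LieClassical.OrthCore Cfsg.Agent.LieClassical.OrthTrans
  Cfsg.Agent.LieClassical.OrthFinite
open scoped commutatorElement

variable {F V : Type*} [Field F] [AddCommGroup V] [Module F V] {Q : QuadraticForm F V}

theorem polar_sum' {ι : Type*} (s : Finset ι) (x : V) (c : ι → F) (e : ι → V) :
    polar Q x (∑ i ∈ s, c i • e i) = ∑ i ∈ s, c i * polar Q x (e i) := by
  classical
  induction s using Finset.induction_on with
  | empty => simp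
  | insert a s ha ih =>
    rw [Finset.sum_insert ha, Finset.sum_insert ha, polar_add_right, polar_smul_right, ih,
      smul_eq_mul]

/-- Claim A: outside an orthogonal family there is a non-singular vector. -/
theorem exists_nonsing_perp (h2 : (2 : F) ≠ 0) (hQ : Nondeg Q) {n : ℕ} (e : Fin n → V)
    (he : ∀ i, Q (e i) ≠ 0) (ho : ∀ i j, i ≠ j → polar Q (e i) (e j) = 0)
    (hn : n < Module.finrank F V) :
    ∃ v, Q v ≠ 0 ∧ ∀ i, polar Q (e i) v = 0 := by
  classical
  by_contra hcon
  push Not at hcon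
  have hz : ∀ v, (∀ i, polar Q (e i) v = 0) → Q v = 0 := by
    intro v hv
    by_contra hne
    obtain ⟨i, hi⟩ := hcon v hne
    exact hi (hv i)
  obtain ⟨w, hw0, hw⟩ := exists_perp_ne e hn
  apply hw0
  apply hQ
  intro y
  set z : V := y - ∑ i, ((2 * Q (e i))⁻¹ * polar Q (e i) y) • e i with hzd
  have hzp : ∀ j, polar Q (e j) z = 0 := by
    intro j
    have h1 : polar Q (e j) (∑ i, ((2 * Q (e i))⁻¹ * polar Q (e i) y) • e i) =
        ∑ i, ((2 * Q (e i))⁻¹ * polar Q (e i) y) * polar Q (e j) (e i) := polar_sum' _ _ _ _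
    rw [hzd, polar_sub_right, h1, Finset.sum_eq_single j]
    · rw [polar_self']
      have := he j
      field_simp
      ring
    · intro i _ hij
      rw [ho j i (Ne.symm hij), mul_zero]
    · intro h
      exact absurd (Finset.mem_univ j) h
  have hwz : polar Q w z = 0 := by
    have h3 : ∀ i, polar Q (e i) (w + z) = 0 := by
      intro i
      rw [polar_add_right, hw, hzp, add_zero]
    have := hz _ h3
    rw [Q_add, hz _ hw, hz _ hzp] at this
    simpa using this
  have hy : y = z + ∑ i, ((2 * Q (e i))⁻¹ * polar Q (e i) y) • e i := by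
    rw [hzd]; abel
  have h4 : polar Q w (∑ i, ((2 * Q (e i))⁻¹ * polar Q (e i) y) • e i) =
      ∑ i, ((2 * Q (e i))⁻¹ * polar Q (e i) y) * polar Q w (e i) := polar_sum' _ _ _ _
  rw [hy, polar_add_right, hwz, h4, zero_add]
  apply Finset.sum_eq_zero
  intro i _
  rw [polar_comm Q w, hw, mul_zero]

/-- `a s² + b t² = 1` is solvable. -/
theorem exists_rep_one [Finite F] (h2 : (2 : F) ≠ 0) {a b : F} (ha : a ≠ 0) (hb : b ≠ 0) :
    ∃ s t : F, a * s ^ 2 + b * t ^ 2 = 1 := by
  have := Fintype.ofFinite F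
  have hodd : Fintype.card F % 2 = 1 := by
    have : ringChar F ≠ 2 := by
      intro h
      apply h2
      have := ringChar.spec F 2
      rw [h] at this
      exact_mod_cast this.2 dvd_rfl
    exact FiniteField.odd_card_of_char_ne_two this
  obtain ⟨s, t, hst⟩ := FiniteField.exists_root_sum_quadratic (R := F)
    (f := Polynomial.C a * Polynomial.X ^ 2)
    (g := Polynomial.C b * Polynomial.X ^ 2 - Polynomial.C 1)
    (Polynomial.degree_C_mul_X_pow 2 ha)
    (by
      rw [Polynomial.degree_sub_eq_left_of_degree_lt]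
      · exact Polynomial.degree_C_mul_X_pow 2 hb
      · rw [Polynomial.degree_C_mul_X_pow 2 hb]
        exact lt_of_le_of_lt Polynomial.degree_C_le (by norm_num)) hodd
  refine ⟨s, t, ?_⟩
  simp only [Polynomial.eval_mul, Polynomial.eval_C, Polynomial.eval_pow, Polynomial.eval_X,
    Polynomial.eval_sub] at hst
  linear_combination hst

/-- Outside an orthogonal family, two dimensions short, there is a vector with `Q = 1`. -/
theorem exists_one_perp [Finite F] (h2 : (2 : F) ≠ 0) (hQ : Nondeg Q) {n : ℕ} (e : Fin n → V)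
    (he : ∀ i, Q (e i) ≠ 0) (ho : ∀ i j, i ≠ j → polar Q (e i) (e j) = 0)
    (hn : n + 1 < Module.finrank F V) :
    ∃ v, Q v = 1 ∧ ∀ i, polar Q (e i) v = 0 := by
  obtain ⟨v, hv, hev⟩ := exists_nonsing_perp h2 hQ e he ho (by omega)
  obtain ⟨w, hw, hew⟩ := exists_nonsing_perp h2 hQ (Fin.cons v e : Fin (n + 1) → V)
    (by
      intro i
      refine Fin.cases ?_ ?_ i
      · simpa using hv
      · intro i; simpa using he i)
    (by
      intro i j
      refine Fin.cases ?_ ?_ i
      · refine Fin.cases ?_ ?_ j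
        · intro h; exact absurd rfl h
        · intro j _
          simp only [Fin.cons_zero, Fin.cons_succ]
          rw [polar_comm]; exact hev j
      · intro i
        refine Fin.cases ?_ ?_ j
        · intro _
          simp only [Fin.cons_zero, Fin.cons_succ]
          exact hev i
        · intro j h
          simp only [Fin.cons_succ]
          exact ho i j (fun h' => h (by rw [h']))) hn
  have hvw : polar Q v w = 0 := by simpa using hew 0
  have hew' : ∀ i, polar Q (e i) w = 0 := fun i => by simpa using hew i.succ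
  obtain ⟨s, t, hst⟩ := exists_rep_one h2 hv hw
  refine ⟨s • v + t • w, ?_, ?_⟩
  · rw [Q_add, QuadraticMap.map_smul, QuadraticMap.map_smul, polar_smul_left, polar_smul_right,
      hvw]
    simp only [smul_eq_mul, mul_zero, add_zero]
    linear_combination hst
  · intro i
    rw [polar_add_right, polar_smul_right, polar_smul_right, hev, hew']
    simp

/-- **Orthonormal families.** -/
theorem exists_orthonormal [Finite F] (h2 : (2 : F) ≠ 0) (hQ : Nondeg Q) (k : ℕ)
    (hk : k < Module.finrank F V) :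
    ∃ e : Fin k → V, (∀ i, Q (e i) = 1) ∧ ∀ i j, i ≠ j → polar Q (e i) (e j) = 0 := by
  induction k with
  | zero => exact ⟨Fin.elim0, fun i => i.elim0, fun i => i.elim0⟩
  | succ k ih =>
    obtain ⟨e, he, ho⟩ := ih (by omega)
    obtain ⟨v, hv, hev⟩ := exists_one_perp h2 hQ e (fun i => by rw [he i]; exact one_ne_zero) ho hk
    refine ⟨(Fin.cons v e : Fin (k + 1) → V), ?_, ?_⟩
    · intro i
      refine Fin.cases ?_ ?_ i
      · simpa using hv
      · intro i; simpa using he i
    · intro i j
      refine Fin.cases ?_ ?_ i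
      · refine Fin.cases ?_ ?_ j
        · intro h; exact absurd rfl h
        · intro j _
          simp only [Fin.cons_zero, Fin.cons_succ]
          rw [polar_comm]; exact hev j
      · intro i
        refine Fin.cases ?_ ?_ j
        · intro _
          simp only [Fin.cons_zero, Fin.cons_succ]
          exact hev i
        · intro j h
          simp only [Fin.cons_succ]
          exact ho i j (fun h' => h (by rw [h']))

/-- An orthogonal family of nonsingular vectors is linearly independent. -/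
theorem linearIndependent_of_orth (h2 : (2 : F) ≠ 0) {n : ℕ} (e : Fin n → V)
    (he : ∀ i, Q (e i) ≠ 0) (ho : ∀ i j, i ≠ j → polar Q (e i) (e j) = 0) :
    LinearIndependent F e := by
  classical
  rw [Fintype.linearIndependent_iff]
  intro c hc j
  have h1 : polar Q (e j) (∑ i, c i • e i) = ∑ i, c i * polar Q (e j) (e i) := polar_sum' _ _ _ _
  rw [hc, polar_zero_right, Finset.sum_eq_single j] at h1
  · rw [polar_self'] at h1
    have h3 : c j * (2 * Q (e j)) = 0 := h1.symm
    rcases mul_eq_zero.1 h3 with h | h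
    · exact h
    · exact absurd h (mul_ne_zero h2 (he j))
  · intro i _ hij
    rw [ho j i (Ne.symm hij), mul_zero]
  · intro h
    exact absurd (Finset.mem_univ j) h

/-- A reflection in a member of an orthogonal family. -/
theorem refl_orth {v x : V} (hv : Q v ≠ 0) (h : polar Q v x = 0) : refl Q v hv x = x := by
  rw [refl_apply, h, mul_zero, zero_smul, sub_zero]

theorem refl_self' {v : V} (hv : Q v ≠ 0) : refl Q v hv v = - v := by
  rw [refl_apply, polar_self']
  have : (Q v)⁻¹ * (2 * Q v) = 2 := by field_simp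
  rw [this]
  module

/-- The swap `x ↔ y` by the reflection in `x - y`. -/
theorem refl_sub_left {x y : V} (h : Q (x - y) ≠ 0) (hxy : Q x = Q y) :
    refl Q (x - y) h x = y := by
  have e : Q (x - y) = polar Q (x - y) x := by
    rw [sub_eq_add_neg, Q_add, QuadraticMap.map_neg, polar_add_left, polar_self', polar_neg_right,
      polar_neg_left, polar_comm Q y x, ← hxy]
    ring
  rw [refl_apply, ← e, inv_mul_cancel₀ h]
  module

theorem refl_sub_right {x y : V} (h : Q (x - y) ≠ 0) (hxy : Q x = Q y) :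
    refl Q (x - y) h y = x := by
  have h1 : refl Q (x - y) h (refl Q (x - y) h x) = x := by
    have := LinearEquiv.congr_fun (refl_mul_self h) x
    simpa using this
  rwa [refl_sub_left h hxy] at h1

theorem comm_mem_left {G : Type*} [Group G] {H : Subgroup G} {a b c : G}
    (hab : a * b ∈ H) (habc : a * b * c ∈ H) : c ∈ H := by
  have := H.mul_mem (H.inv_mem hab) habc
  rwa [inv_mul_cancel_left] at this

theorem neg_eq_prod (h2 : (2 : F) ≠ 0) (hd : Module.finrank F V = 6) (e : Fin 6 → V)
    (he : ∀ i, Q (e i) ≠ 0) (ho : ∀ i j, i ≠ j → polar Q (e i) (e j) = 0) :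
    (LinearEquiv.neg F : V ≃ₗ[F] V) = refl Q (e 0) (he 0) * refl Q (e 1) (he 1) *
      (refl Q (e 2) (he 2) * refl Q (e 3) (he 3)) *
      (refl Q (e 4) (he 4) * refl Q (e 5) (he 5)) := by
  have hli := linearIndependent_of_orth h2 e he ho
  have : Module.Finite F V := Module.finite_of_finrank_pos (by omega)
  let b := basisOfLinearIndependentOfCardEqFinrank hli (by rw [hd]; rfl)
  have hb : ∀ i, b i = e i := fun i => by simp [b]
  apply b.ext'
  intro i
  rw [hb]
  have hs : ∀ i, refl Q (e i) (he i) (e i) = - e i := fun i => refl_self' (he i)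
  have hn : ∀ i j, i ≠ j → refl Q (e i) (he i) (e j) = e j := fun i j h => refl_orth _ (ho i j h)
  simp only [LinearEquiv.mul_apply, LinearEquiv.neg_apply]
  fin_cases i <;> simp [hs, hn]

/-- If `-1 ∈ Ω` in dimension six there is an orthonormal family of six vectors. -/
theorem exists_orthonormal_six [Finite F] (h2 : (2 : F) ≠ 0) (hd : Module.finrank F V = 6)
    (hQ : Nondeg Q) (h : (LinearEquiv.neg F : V ≃ₗ[F] V) ∈ ⁅O Q, O Q⁆) :
    ∃ e : Fin 6 → V, (∀ i, Q (e i) = 1) ∧ ∀ i j, i ≠ j → polar Q (e i) (e j) = 0 := by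
  have : Module.Finite F V := Module.finite_of_finrank_pos (by omega)
  have hG : Good Q := good_of_finite hQ (by omega)
  obtain ⟨e, he, ho⟩ := exists_orthonormal h2 hQ 5 (by omega)
  obtain ⟨v, hv, hev⟩ := exists_nonsing_perp h2 hQ e (fun i => by rw [he i]; exact one_ne_zero) ho
    (by omega)
  -- the family `e 0, …, e 4, v`
  let f : Fin 6 → V := ![e 0, e 1, e 2, e 3, e 4, v]
  have hf : ∀ i, Q (f i) ≠ 0 := by
    intro i
    fin_cases i <;> simp [f, he, hv]
  have hve : ∀ i, polar Q v (e i) = 0 := fun i => by rw [polar_comm]; exact hev i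
  have hfo : ∀ i j, i ≠ j → polar Q (f i) (f j) = 0 := by
    intro i j hij
    fin_cases i <;> fin_cases j <;> first | exact absurd rfl hij | (simp [f, hev, hve, ho])
  have h1 := neg_eq_prod h2 hd f hf hfo
  have hm : ∀ i j : Fin 6, Q (f i) = 1 → Q (f j) = 1 →
      refl Q (f i) (hf i) * refl Q (f j) (hf j) ∈ ⁅O Q, O Q⁆ := by
    intro i j hi hj
    rw [hG.commutator_eq_E]
    exact hG.refl_mul_refl_mem _ _ (hj.trans hi.symm)
  have h45 : refl Q (f 4) (hf 4) * refl Q (f 5) (hf 5) ∈ ⁅O Q, O Q⁆ := by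
    rw [h1] at h
    refine comm_mem_left (Subgroup.mul_mem _ (hm 0 1 ?_ ?_) (hm 2 3 ?_ ?_)) h <;> simp [f, he]
  have hsq := Cfsg.Agent.H141.SpinFacts.isSquare_of_refl_mul_refl h2 (hf 4) (hf 5) h45
  have h4 : Q (f 4) = 1 := by simp [f, he]
  have h5 : f 5 = v := by simp [f]
  rw [h4, one_mul, h5] at hsq
  obtain ⟨c, hc⟩ := hsq
  have hc0 : c ≠ 0 := by
    rintro rfl
    rw [mul_zero] at hc
    exact hv hc
  refine ⟨![e 0, e 1, e 2, e 3, e 4, c⁻¹ • v], ?_, ?_⟩
  · intro i
    fin_cases i <;> simp [he, QuadraticMap.map_smul]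
    rw [hc]
    field_simp
  · intro i j hij
    fin_cases i <;> fin_cases j <;>
      first | exact absurd rfl hij | (simp [polar_smul_left, polar_smul_right, hev, hve, ho])

/-- **`-1` in dimension six**, with `y² = 1`. -/
theorem neg_six' [Finite F] (h2 : (2 : F) ≠ 0) (hd : Module.finrank F V = 6)
    (hQ : Nondeg Q) (h : (LinearEquiv.neg F : V ≃ₗ[F] V) ∈ ⁅O Q, O Q⁆) :
    ∃ k ∈ ⁅O Q, O Q⁆, ∃ y ∈ O Q, y * y = 1 ∧
      (LinearEquiv.neg F : V ≃ₗ[F] V) = k * y * k⁻¹ * y⁻¹ := by
  have : Module.Finite F V := Module.finite_of_finrank_pos (by omega)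
  have hG : Good Q := good_of_finite hQ (by omega)
  obtain ⟨e, he, ho⟩ := exists_orthonormal_six h2 hd hQ h
  have he' : ∀ i, Q (e i) ≠ 0 := fun i => by rw [he i]; exact one_ne_zero
  have hli := linearIndependent_of_orth h2 e he' ho
  let b := basisOfLinearIndependentOfCardEqFinrank hli (by rw [hd]; rfl)
  have hb : ∀ i, b i = e i := fun i => by simp [b]
  have hs : ∀ i, refl Q (e i) (he' i) (e i) = - e i := fun i => refl_self' (he' i)
  have hn : ∀ i j, i ≠ j → refl Q (e i) (he' i) (e j) = e j := fun i j h => refl_orth _ (ho i j h)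
  have hsub : ∀ i j, i ≠ j → Q (e i - e j) = 2 := by
    intro i j hij
    rw [sub_eq_add_neg, Q_add, QuadraticMap.map_neg, polar_neg_right, ho i j hij, he, he]
    ring
  have hadd : ∀ i j, i ≠ j → Q (e i + e j) = 2 := by
    intro i j hij
    rw [Q_add, ho i j hij, he, he]
    ring
  have hsub' : ∀ i j, i ≠ j → Q (e i - e j) ≠ 0 := fun i j hij => by rw [hsub i j hij]; exact h2
  have hadd' : ∀ i j, i ≠ j → Q (e i + e j) ≠ 0 := fun i j hij => by rw [hadd i j hij]; exact h2
  have hm : ∀ {v w : V} (hv : Q v ≠ 0) (hw : Q w ≠ 0), Q v = 2 → Q w = 2 →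
      refl Q v hv * refl Q w hw ∈ ⁅O Q, O Q⁆ := by
    intro v w hv hw h1 h3
    rw [hG.commutator_eq_E]
    exact hG.refl_mul_refl_mem _ _ (h3.trans h1.symm)
  let k : V ≃ₗ[F] V := refl Q (e 0 - e 3) (hsub' 0 3 (by decide)) *
    refl Q (e 1 - e 4) (hsub' 1 4 (by decide)) *
    (refl Q (e 2 - e 5) (hsub' 2 5 (by decide)) * refl Q (e 0 + e 1) (hadd' 0 1 (by decide)))
  let y : V ≃ₗ[F] V := refl Q (e 3) (he' 3) * refl Q (e 4) (he' 4) * refl Q (e 5) (he' 5)
  have hk : k ∈ ⁅O Q, O Q⁆ :=
    Subgroup.mul_mem _ (hm _ _ (hsub _ _ (by decide)) (hsub _ _ (by decide)))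
      (hm _ _ (hsub _ _ (by decide)) (hadd _ _ (by decide)))
  have hy : y ∈ O Q :=
    Subgroup.mul_mem _ (Subgroup.mul_mem _ (refl_mem_O _) (refl_mem_O _)) (refl_mem_O _)
  have hyy : y * y = 1 := by
    apply b.ext'
    intro i
    rw [hb]
    simp only [y, LinearEquiv.mul_apply]
    fin_cases i <;> simp [hs, hn]
  refine ⟨k, hk, y, hy, hyy, ?_⟩
  have hky : k * y = LinearEquiv.neg F * y * k := by
    have r1 : ∀ i j (hij : i ≠ j), refl Q (e i - e j) (hsub' i j hij) (e i) = e j :=
      fun i j hij => refl_sub_left _ ((he i).trans (he j).symm)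
    have r2 : ∀ i j (hij : i ≠ j), refl Q (e i - e j) (hsub' i j hij) (e j) = e i :=
      fun i j hij => refl_sub_right _ ((he i).trans (he j).symm)
    have r3 : ∀ i j l (hij : i ≠ j), i ≠ l → j ≠ l →
        refl Q (e i - e j) (hsub' i j hij) (e l) = e l := by
      intro i j l hij hil hjl
      apply refl_orth
      rw [polar_sub_left, ho i l hil, ho j l hjl, sub_zero]
    have r4 : ∀ i j l (hij : i ≠ j), i ≠ l → j ≠ l →
        refl Q (e i + e j) (hadd' i j hij) (e l) = e l := by
      intro i j l hij hil hjl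
      apply refl_orth
      rw [polar_add_left, ho i l hil, ho j l hjl, add_zero]
    have r5 : ∀ i j (hij : i ≠ j), refl Q (e i + e j) (hadd' i j hij) (e i) = - e j := by
      intro i j hij
      rw [refl_apply, hadd i j hij, polar_add_left, ho j i hij.symm, polar_self', he]
      have : (2 : F)⁻¹ * (2 * 1 + 0) = 1 := by field_simp; ring
      rw [this]
      module
    have r6 : ∀ i j (hij : i ≠ j), refl Q (e i + e j) (hadd' i j hij) (e j) = - e i := by
      intro i j hij
      rw [refl_apply, hadd i j hij, polar_add_left, ho i j hij, polar_self', he]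
      have : (2 : F)⁻¹ * (0 + 2 * 1) = 1 := by field_simp; ring
      rw [this]
      module
    apply b.ext'
    intro i
    rw [hb]
    simp only [k, y, LinearEquiv.mul_apply, LinearEquiv.neg_apply]
    fin_cases i <;> simp [hs, hn, r1, r2, r3, r4, r5, r6]
  rw [hky]
  group

/-- **`-1` in dimension six.** -/
theorem neg_six [Finite F] (h2 : (2 : F) ≠ 0) (hd : Module.finrank F V = 6)
    (hQ : Nondeg Q) (h : (LinearEquiv.neg F : V ≃ₗ[F] V) ∈ ⁅O Q, O Q⁆) :
    ∃ k ∈ ⁅O Q, O Q⁆, ∃ y ∈ O Q, (LinearEquiv.neg F : V ≃ₗ[F] V) = k * y * k⁻¹ * y⁻¹ := by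
  obtain ⟨k, hk, y, hy, -, e⟩ := neg_six' h2 hd hQ h
  exact ⟨k, hk, y, hy, e⟩

end Cfsg.Agent.H194.OreNegSix
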