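import Mathlib
import Cfsg.Agent.H140.OreO.PolyB
import Cfsg.Agent.H140.OreO.GLConj
import Cfsg.Agent.H141.SpinLev
import Cfsg.Agent.H434.CornMain
import Cfsg.Agent.H958.Ore.IB
import Cfsg.Agent.H194.GLTwoSeven

/-!
# Every element of `Ω(V)` is a commutator, over the field with two elements (helper194)

Base cases in dimensions 8, 10, 12, 14 from the base corner theorem (helper434) and the lemma on `GL_m(2)`,
`3 ≤ m ≤ 7`; recursion with identity blocks (helper958) and the block theorem (helper140).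
-/

set_option autoImplicit false
set_option linter.unusedSectionVars false

namespace Cfsg.Agent.H194.OreTwo

open Polynomial Matrix QuadraticMap Cfsg.Agent.LieClassical.OrthCore
  Cfsg.Agent.LieClassical.OrthTrans Cfsg.Agent.LieClassical.OrthFinite Cfsg.Agent.H140.OreO

universe u v

variable {F : Type u} [Field F] {V : Type v} [AddCommGroup V] [Module F V] {n : ℕ}
  {Q : QuadraticForm F V}

/-! ### Coprimality of good polynomials -/

theorem cop4 {d e : ℕ} {c f : F[X]} (hc : GoodPoly d c) (hf : GoodPoly e f) (hd : 2 ≤ d)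
    (he : 2 ≤ e) (hde : d ≠ e) :
    IsCoprime c f ∧ IsCoprime c f.reverse ∧ IsCoprime c.reverse f ∧
      IsCoprime c.reverse f.reverse := by
  have c0 : c.coeff 0 ≠ 0 := coeff_zero_ne hc.irr (by rw [hc.deg]; exact hd)
  have f0 : f.coeff 0 ≠ 0 := coeff_zero_ne hf.irr (by rw [hf.deg]; exact he)
  have ic := irreducible_rev hc.irr c0
  have jf := irreducible_rev hf.irr f0
  have dc := natDegree_rev c0
  have df := natDegree_rev f0
  refine ⟨coprime_of_deg_ne hc.irr hf.irr ?_, coprime_of_deg_ne hc.irr jf ?_,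
    coprime_of_deg_ne ic hf.irr ?_, coprime_of_deg_ne ic jf ?_⟩
  · rw [hf.deg, hc.deg]; exact hde.symm
  · rw [df, hf.deg, hc.deg]; exact hde.symm
  · rw [dc, hf.deg, hc.deg]; exact hde.symm
  · rw [dc, df, hf.deg, hc.deg]; exact hde.symm

/-- All good polynomials of degree outside `S` are units at `y`. -/
def Av (S : ℕ → Prop) (y : V ≃ₗ[F] V) : Prop :=
  ∀ (d : ℕ) (c : F[X]), 2 ≤ d → ¬ S d → GoodPoly d c →
    Un (y : Module.End F V) c ∧ Un (y : Module.End F V) c.reverse

theorem Av.mono {S S' : ℕ → Prop} {y : V ≃ₗ[F] V} (h : Av S y) (hS : ∀ d, S d → S' d) :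
    Av S' y := fun d c hd hn hc => h d c hd (fun hs => hn (hS d hs)) hc

theorem Av.conj {S : ℕ → Prop} {y : V ≃ₗ[F] V} (h : Av S y) (g : V ≃ₗ[F] V) :
    Av S (g * y * g⁻¹) := fun d c hd hn hc =>
  ⟨(h d c hd hn hc).1.conj' g, (h d c hd hn hc).2.conj' g⟩

theorem av_one (S : ℕ → Prop) : Av S (1 : V ≃ₗ[F] V) := by
  intro d c hd _ hc
  have h0 : aeval ((1 : V ≃ₗ[F] V) : Module.End F V) (X - C 1 : F[X]) = 0 := by
    rw [map_sub, aeval_X, aeval_C, map_one]
    show (LinearEquiv.refl F V : V →ₗ[F] V) - 1 = 0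
    rw [LinearEquiv.refl_toLinearMap]
    exact sub_self _
  have c0 : c.coeff 0 ≠ 0 := coeff_zero_ne hc.irr (by rw [hc.deg]; exact hd)
  have hX : (X - C 1 : F[X]) ≠ 0 := X_sub_C_ne_zero 1
  refine ⟨un_of_coprime h0 (coprime_of_deg hc.irr hX ?_),
    un_of_coprime h0 (coprime_of_deg (irreducible_rev hc.irr c0) hX ?_)⟩
  · rw [natDegree_X_sub_C, hc.deg]; omega
  · rw [natDegree_X_sub_C, natDegree_rev c0, hc.deg]; omega

theorem Av.lev [FiniteDimensional F V] {S : ℕ → Prop} {y : V ≃ₗ[F] V} (hy : Av S y) {m : ℕ}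
    (hm : 2 ≤ m) {c : F[X]} (hc : GoodPoly m c) {X : GL (Fin m) F}
    (hX : (X : Matrix (Fin m) (Fin m) F).charpoly = c) :
    Av (fun d => S d ∨ d = m) (H140.OreO.lev X y) := by
  intro d f hd hn hf
  rw [not_or] at hn
  obtain ⟨h1, h2, h3, h4⟩ := cop4 hf hc hd hm hn.2
  have e1 : aeval (X : Matrix (Fin m) (Fin m) F) c = 0 := by
    rw [← hX]; exact aeval_self_charpoly _
  have e2 : aeval (ti X : Matrix (Fin m) (Fin m) F) c.reverse = 0 := by
    rw [← hX]; exact aeval_ti_reverse X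
  have hyf := hy d f hd hn.1 hf
  exact ⟨un_lev (Un.of_coprime_mat e1 h1) hyf.1 (Un.of_coprime_mat e2 h2),
    un_lev (Un.of_coprime_mat e1 h3) hyf.2 (Un.of_coprime_mat e2 h4)⟩

theorem Av.cop [FiniteDimensional F V] {S : ℕ → Prop} {y : V ≃ₗ[F] V} (hy : Av S y) {m : ℕ}
    (hm : 2 ≤ m) (hS : ¬ S m) {c : F[X]} (hc : GoodPoly m c) {X : GL (Fin m) F}
    (hX : (X : Matrix (Fin m) (Fin m) F).charpoly = c) : Cop X y := by
  have h := hy m c hm hS hc
  apply cop_of_charpoly
  · rw [hX]; exact h.1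
  · rw [hX]; exact h.2
  · rw [hX]; exact hc.cop

theorem Av.of_autE {V' : Type*} [AddCommGroup V'] [Module F V'] {e : V ≃ₗ[F] V'} {S : ℕ → Prop}
    {y : V ≃ₗ[F] V} (h : Av S (autE e y)) : Av S y := fun d c hd hn hc =>
  ⟨(h d c hd hn hc).1.of_autE, (h d c hd hn hc).2.of_autE⟩

theorem Sol.mono {g : V ≃ₗ[F] V} {s : Fˣ} {R R' : (V ≃ₗ[F] V) → Prop} (h : Sol Q g s R)
    (hR : ∀ y, R y → R' y) : Sol Q g s R' := by
  obtain ⟨k, hk, y, hy, e, hr⟩ := h
  exact ⟨k, hk, y, hy, e, hR y hr⟩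

theorem unit_eq_one (hcard : Nat.card F = 2) (a : F) (ha : a ≠ 0) : a = 1 := by
  rcases Cfsg.Agent.H194.GLTwo.zero_or_one hcard a with h | h
  · exact absurd h ha
  · exact h

theorem det_eq_one' (hcard : Nat.card F = 2) {m : ℕ} (X : GL (Fin m) F) :
    (X : Matrix (Fin m) (Fin m) F).det = 1 := by
  apply unit_eq_one hcard
  exact ((Matrix.isUnit_iff_isUnit_det _).1 X.isUnit).ne_zero

theorem charpoly_conj' {m : ℕ} (K Y : GL (Fin m) F) :
    ((K * Y * K⁻¹ : GL (Fin m) F) : Matrix (Fin m) (Fin m) F).charpoly =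
      (Y : Matrix (Fin m) (Fin m) F).charpoly := by
  have h := Matrix.charpoly_units_conj K (Y : Matrix (Fin m) (Fin m) F)
  rwa [← Units.val_mul, ← Matrix.coe_units_inv, ← Units.val_mul] at h

theorem finite_of (hcard : Nat.card F = 2) : Finite F :=
  Nat.finite_of_card_ne_zero (by rw [hcard]; norm_num)

/-! ### Base -/

theorem base_two (hcard : Nat.card F = 2) {m : ℕ} (hm : 2 ≤ m) {p : F[X]} (hp : GoodPoly m p)
    (hgl : ∀ A : GL (Fin m) F, 2 ≤ ((A : Matrix (Fin m) (Fin m) F) - 1).rank →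
      ∃ y : GL (Fin m) F, (y : Matrix (Fin m) (Fin m) F).charpoly = p ∧
        ((A * y : GL (Fin m) F) : Matrix (Fin m) (Fin m) F).charpoly = p)
    [FiniteDimensional F V] (hQ : Nondeg Q) (hN : 5 ≤ Module.finrank F V) {g : V ≃ₗ[F] V}
    (hg : g ∈ Om Q) (hB : BaseCorner m Q g) : Sol Q g 1 (Av (fun d => d = m)) := by
  have := finite_of hcard
  obtain ⟨w, w', hf, hS, hdet, hA⟩ := hB
  have he := hf.MQ_toModel
  let A : GL (Fin m) F := GeneralLinearGroup.mkOfDetNeZero (corner Q g w w')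
    (by rw [hdet]; exact one_ne_zero)
  have hAc : (A : Matrix (Fin m) (Fin m) F) = corner Q g w w' := rfl
  have hGM : Good (MQ m (res Q w w')) := good_of_finite (nondeg_MQ (hf.nondeg_res hQ))
    (by rw [← hf.toModel.finrank_eq]; exact hN)
  have hgO : autE hf.toModel g ∈ O (MQ m (res Q w w')) := (autE_mem_O he).2 (Om_le hg)
  have hA' : ∀ a, (autE hf.toModel g (a, 0, 0)).1 = (A : Matrix (Fin m) (Fin m) F) *ᵥ a :=
    fun a => H141.SpinFacts.corner_toModel hf g a
  have hS' : ∀ v, ∃ c d, autE hf.toModel g (c, v, 0) = (0, v, d) := by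
    intro v
    obtain ⟨c, d, hcd⟩ := hS v v.2
    refine ⟨c, d, ?_⟩
    rw [autE_apply, H141.SpinFacts.toModel_symm_left, hcd,
      ← H141.SpinFacts.toModel_symm_right hf, LinearEquiv.apply_symm_apply]
  obtain ⟨Y, K, hY, hAY, hK⟩ : ∃ Y K : GL (Fin m) F,
      (Y : Matrix (Fin m) (Fin m) F).charpoly = p ∧ A = (K * Y * K⁻¹) * Y⁻¹ ∧
      (K : Matrix (Fin m) (Fin m) F).det = 1 := by
    rcases hA with h1 | ⟨-, h1⟩
    · obtain ⟨Y, hY⟩ := exists_matrix p hp.monic (coeff_zero_ne hp.irr (by rw [hp.deg]; exact hm))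
        hp.deg
      refine ⟨Y, 1, hY, ?_, by simp⟩
      have : A = 1 := Units.ext (by rw [hAc, h1]; rfl)
      rw [this]; group
    · obtain ⟨Y, hY, hAY⟩ := hgl A h1
      obtain ⟨K, hK, hKd⟩ := exists_conj_matrix (A * Y) Y (hAY.trans hY.symm)
        (by rw [hY]; exact hp.irr) 1 one_ne_zero
      exact ⟨Y, K, hY, by rw [← hK]; group, hKd⟩
  have hX : ((K * Y * K⁻¹ : GL (Fin m) F) : Matrix (Fin m) (Fin m) F).charpoly = p := by
    rw [charpoly_conj', hY]
  have a1 : Av (fun _ => False) (1 : perp Q w w' ≃ₗ[F] perp Q w w') := av_one _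
  have := Cfsg.Agent.H140.OreO.base hGM (by omega) hgO hA' hS' hAY hK (s := 1)
    (by rw [Units.val_one]; exact det_eq_one' hcard Y) (a1.cop hm id hp hX) (a1.cop hm id hp hY)
  refine this.of_autE he fun y hy => ?_
  obtain ⟨v, hv⟩ := hy
  apply Av.of_autE (e := hf.toModel)
  rw [hv]
  exact ((a1.lev hm hp hY).conj v).mono (fun d hd => hd.resolve_left id)

/-! ### Recursion step -/

theorem step_two (hcard : Nat.card F = 2) {m : ℕ} (hm : 3 ≤ m) {S : ℕ → Prop} (hS : ¬ S m)
    [FiniteDimensional F V] (hQ : Nondeg Q) (h1 : 4 * m + 2 ≤ Module.finrank F V)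
    (h2 : 3 * m + 4 ≤ Module.finrank F V) (h5 : 2 * m + 5 ≤ Module.finrank F V)
    (ih : ∀ w w' : Fin m → V, Frame Q w w' → ∀ g₁ ∈ Om (res Q w w'),
      Sol (res Q w w') g₁ 1 (Av S))
    {g : V ≃ₗ[F] V} (hg : g ∈ Om Q) : Sol Q g 1 (Av (fun d => S d ∨ d = m)) := by
  have := finite_of hcard
  obtain ⟨w, w', hf, hc1⟩ := H958.Ore.idFrame (m := m) hQ (Om_le hg) h1 h2
    (fun h => absurd (Cfsg.Agent.H194.GLTwo.two_eq_zero
      (Cfsg.Agent.H194.GLTwo.zero_or_one hcard)) h)
  have he := hf.MQ_toModel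
  have hnd := hf.nondeg_res hQ
  have hfr := hf.finrank_perp
  have hGM : Good (MQ m (res Q w w')) := good_of_finite (nondeg_MQ hnd)
    (by rw [← hf.toModel.finrank_eq]; omega)
  have hG1 : Good (res Q w w') := good_of_finite hnd (by omega)
  obtain ⟨c, hc⟩ := exists_good F m (by omega) (by
    rw [hcard]
    calc 5 ≤ 2 ^ 3 := by norm_num
      _ ≤ 2 ^ m := Nat.pow_le_pow_right (by norm_num) hm)
  obtain ⟨X, hX⟩ := exists_matrix c hc.monic (coeff_zero_ne hc.irr (by rw [hc.deg]; omega)) hc.deg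
  have hcorner : ∀ a, (autE hf.toModel g (a, 0, 0)).1 = a := fun a => by
    have := H141.SpinFacts.corner_toModel hf g a
    rw [hc1, one_mulVec] at this
    exact this
  have key := Cfsg.Agent.H140.OreO.block hGM (by omega) hG1.exists_hyp
    ((autE_mem_Om he).2 hg) hcorner
    (fun g₁ hg₁ h => H141.SpinFacts.Om_of_lev hnd (by omega) hg₁ h) (s := 1) (t := 1) (Av S)
    (ih w w' hf) (fun X _ => (X : Matrix (Fin m) (Fin m) F).charpoly = c)
    (fun y hy => ⟨X, 1, by simpa using det_eq_one' hcard X, hX, fun k =>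
      (hy.conj k).cop (by omega) hS hc hX⟩)
  rw [mul_one] at key
  refine key.of_autE he fun y hy => ?_
  obtain ⟨y', v, X', hy', hX', e⟩ := hy
  apply Av.of_autE (e := hf.toModel)
  rw [e]
  exact (hy'.lev (by omega) hc hX').conj v

/-! ### The induction -/

/-- The statement `T(N, S)`. -/
def T (F : Type u) [Field F] (N : ℕ) (S : ℕ → Prop) : Prop :=
  ∀ (V : Type v) [AddCommGroup V] [Module F V] [FiniteDimensional F V] (Q : QuadraticForm F V),
    Nondeg Q → Module.finrank F V = N → ∀ g ∈ Om Q, Sol Q g 1 (Av S)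

theorem T.mono {N : ℕ} {S S' : ℕ → Prop} (h : T.{u, v} F N S) (hS : ∀ d, S d → S' d) :
    T.{u, v} F N S' := fun V _ _ _ Q hQ hN g hg =>
  Sol.mono (h V Q hQ hN g hg) (fun _ hy => hy.mono hS)

theorem T.step (hcard : Nat.card F = 2) {N N' m : ℕ} {S S' : ℕ → Prop} (h : T.{u, v} F N S)
    (hm : 3 ≤ m) (hS : ¬ S m) (hN : N' = N + 2 * m) (h1 : 4 * m + 2 ≤ N') (h2 : 3 * m + 4 ≤ N')
    (h5 : 2 * m + 5 ≤ N') (hSS : ∀ d, S d → S' d) (hSm : S' m) : T.{u, v} F N' S' := by
  intro V _ _ _ Q hQ hd g hg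
  refine Sol.mono (step_two (Q := Q) hcard hm hS hQ (by rw [hd]; exact h1) (by rw [hd]; exact h2)
    (by rw [hd]; exact h5) (fun w w' hf g₁ hg₁ => ?_) hg) fun y hy => hy.mono ?_
  · have := hf.finrank_perp
    exact h _ _ (hf.nondeg_res hQ) (by omega) g₁ hg₁
  · rintro d (hd | rfl)
    · exact hSS d hd
    · exact hSm

open Cfsg.Agent.H194.GLTwo in
theorem good_of {m : ℕ} {p : F[X]} (hmon : p.Monic) (hirr : Irreducible p)
    (hdeg : p.natDegree = m) (hm : 2 ≤ m) (hne : p ≠ p.reverse) (hcard : Nat.card F = 2) :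
    GoodPoly m p := by
  refine ⟨hmon, hirr, hdeg, ?_⟩
  have h0 : p.coeff 0 ≠ 0 := coeff_zero_ne hirr (by omega)
  rw [hirr.coprime_iff_not_dvd]
  rintro ⟨q, hq⟩
  apply hne
  have hq0 : q ≠ 0 := by
    rintro rfl
    rw [mul_zero, reverse_eq_zero] at hq
    exact hirr.ne_zero hq
  have hdeg' : q.natDegree = 0 := by
    have h1 := natDegree_rev h0
    rw [hq, natDegree_mul hirr.ne_zero hq0] at h1
    omega
  obtain ⟨d, rfl⟩ : ∃ d, q = C d := ⟨_, eq_C_of_natDegree_eq_zero hdeg'⟩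
  have hd0 : d ≠ 0 := by
    rintro rfl
    exact hq0 C_0
  rw [unit_eq_one hcard d hd0, C_1, mul_one] at hq
  exact hq.symm

/-- The lemma on `GL_m(2)`. -/
def GLm (F : Type u) [Field F] (m : ℕ) : Prop :=
  ∃ p : F[X], GoodPoly m p ∧ ∀ A : GL (Fin m) F, 2 ≤ ((A : Matrix (Fin m) (Fin m) F) - 1).rank →
      ∃ y : GL (Fin m) F, (y : Matrix (Fin m) (Fin m) F).charpoly = p ∧
        ((A * y : GL (Fin m) F) : Matrix (Fin m) (Fin m) F).charpoly = p

open Cfsg.Agent.H194.GLTwo in
theorem glm (hcard : Nat.card F = 2) {m : ℕ} (h3 : 3 ≤ m) (h7 : m ≤ 7) : GLm F m := by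
  obtain rfl | rfl | rfl | rfl | rfl : m = 3 ∨ m = 4 ∨ m = 5 ∨ m = 6 ∨ m = 7 := by omega
  · exact ⟨p3 F, good_of p3_monic (p3_irreducible hcard) p3_natDegree (by norm_num)
      p3_ne_reverse hcard, gl_two_three hcard⟩
  · exact ⟨p4 F, good_of p4_monic (p4_irreducible hcard) p4_natDegree (by norm_num)
      p4_ne_reverse hcard, gl_two_four hcard⟩
  · exact ⟨p5 F, good_of p5_monic (p5_irreducible hcard) p5_natDegree (by norm_num)
      p5_ne_reverse hcard, gl_two_five hcard⟩
  · exact ⟨p6 F, good_of p6_monic (p6_irreducible hcard) p6_natDegree (by norm_num)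
      p6_ne_reverse hcard, gl_two_six hcard⟩
  · exact ⟨p7 F, good_of p7_monic (p7_irreducible hcard) p7_natDegree (by norm_num)
      p7_ne_reverse hcard, gl_two_seven hcard⟩

/-- `Ω` is not trivial. -/
theorem exists_ne_one (hG : Good Q) : ∃ g ∈ Om Q, g ≠ 1 := by
  obtain ⟨x, y, h⟩ := hG.exists_hyp
  obtain ⟨g, hg, e⟩ := hG.trans_sing h.left h.right h.left_ne h.right_ne
  refine ⟨g, by rw [Om, hG.commutator_eq_E]; exact hg, ?_⟩
  rintro rfl
  have h1 : x = y := e
  have h2 := h.pair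
  rw [← h1, h.polar_left] at h2
  exact zero_ne_one h2

theorem T.base (hcard : Nat.card F = 2) {N : ℕ} {S : ℕ → Prop} (h8 : 8 ≤ N) (h14 : N ≤ 14)
    (hS : ∀ m, 2 * m ≤ N → N ≤ 2 * m + 2 → S m) : T.{u, v} F N S := by
  intro V _ _ _ Q hQ hd
  have := finite_of hcard
  have hG : Good Q := good_of_finite hQ (by omega)
  have key : ∀ g ∈ Om Q, g ≠ 1 → Sol Q g 1 (Av S) := by
    intro g hg hg1
    have hs : ∀ c : F, ∃ v, g v ≠ c • v := by
      intro c
      rcases Cfsg.Agent.H194.GLTwo.zero_or_one hcard c with rfl | rfl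
      · obtain ⟨x, y, h⟩ := hG.exists_hyp
        refine ⟨x, fun hx => h.left_ne ?_⟩
        rw [zero_smul] at hx
        exact (LinearEquiv.map_eq_zero_iff g).1 hx
      · by_contra hcon
        push Not at hcon
        apply hg1
        apply LinearEquiv.ext
        intro v
        rw [hcon v, one_smul]
        rfl
    obtain ⟨m, h3, hm1, hm2, hB⟩ := H434.Corn.exists_baseCorner hQ (by omega) hg hs
    obtain ⟨p, hp, hgl⟩ := glm (F := F) hcard h3 (by omega)
    refine Sol.mono (base_two hcard (by omega) hp hgl hQ (by omega) hg hB) fun y hy => hy.mono ?_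
    rintro d rfl
    exact hS d (by omega) (by omega)
  intro g hg
  by_cases hg1 : g = 1
  · obtain ⟨g₀, hg₀, hne⟩ := exists_ne_one hG
    obtain ⟨k, hk, y, hy, -, hr⟩ := key g₀ hg₀ hne
    exact ⟨1, one_mem _, y, hy, by rw [hg1]; group, hr⟩
  · exact key g hg hg1

theorem T.all (hcard : Nat.card F = 2) (N : ℕ) (hN : 8 ≤ N) (he : Even N) :
    T.{u, v} F N (fun d => d ≤ max 7 ((N - 2) / 4)) := by
  have b8 : T.{u, v} F 8 (fun d => d = 3 ∨ d = 4) :=
    T.base hcard (by norm_num) (by norm_num) (fun m h1 h2 => by omega)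
  have b10 : T.{u, v} F 10 (fun d => d = 4 ∨ d = 5) :=
    T.base hcard (by norm_num) (by norm_num) (fun m h1 h2 => by omega)
  have b12 : T.{u, v} F 12 (fun d => d = 5 ∨ d = 6) :=
    T.base hcard (by norm_num) (by norm_num) (fun m h1 h2 => by omega)
  have b14 : T.{u, v} F 14 (fun d => d = 6 ∨ d = 7) :=
    T.base hcard (by norm_num) (by norm_num) (fun m h1 h2 => by omega)
  have b16 : T.{u, v} F 16 (fun d => d = 3 ∨ d = 4 ∨ d = 5) :=
    b10.step hcard (m := 3) (by norm_num) (by omega) (by norm_num) (by norm_num) (by norm_num)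
      (by norm_num) (fun d hd => by omega) (by omega)
  have b18 : T.{u, v} F 18 (fun d => d = 3 ∨ d = 5 ∨ d = 6) :=
    b12.step hcard (m := 3) (by norm_num) (by omega) (by norm_num) (by norm_num) (by norm_num)
      (by norm_num) (fun d hd => by omega) (by omega)
  have b20 : T.{u, v} F 20 (fun d => d = 4 ∨ d = 5 ∨ d = 6) :=
    b12.step hcard (m := 4) (by norm_num) (by omega) (by norm_num) (by norm_num) (by norm_num)
      (by norm_num) (fun d hd => by omega) (by omega)
  have b22 : T.{u, v} F 22 (fun d => d = 4 ∨ d = 6 ∨ d = 7) :=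
    b14.step hcard (m := 4) (by norm_num) (by omega) (by norm_num) (by norm_num) (by norm_num)
      (by norm_num) (fun d hd => by omega) (by omega)
  have b24 : T.{u, v} F 24 (fun d => d = 5 ∨ d = 6 ∨ d = 7) :=
    b14.step hcard (m := 5) (by norm_num) (by omega) (by norm_num) (by norm_num) (by norm_num)
      (by norm_num) (fun d hd => by omega) (by omega)
  have b26 : T.{u, v} F 26 (fun d => d = 3 ∨ d = 4 ∨ d = 5 ∨ d = 6) :=
    b18.step hcard (m := 4) (by norm_num) (by omega) (by norm_num) (by norm_num) (by norm_num)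
      (by norm_num) (fun d hd => by omega) (by omega)
  have b28 : T.{u, v} F 28 (fun d => d = 3 ∨ d = 4 ∨ d = 5 ∨ d = 6) :=
    b16.step hcard (m := 6) (by norm_num) (by omega) (by norm_num) (by norm_num) (by norm_num)
      (by norm_num) (fun d hd => by omega) (by omega)
  have b30 : T.{u, v} F 30 (fun d => d = 3 ∨ d = 4 ∨ d = 5 ∨ d = 7) :=
    b16.step hcard (m := 7) (by norm_num) (by omega) (by norm_num) (by norm_num) (by norm_num)
      (by norm_num) (fun d hd => by omega) (by omega)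
  have b32 : T.{u, v} F 32 (fun d => d = 3 ∨ d = 5 ∨ d = 6 ∨ d = 7) :=
    b18.step hcard (m := 7) (by norm_num) (by omega) (by norm_num) (by norm_num) (by norm_num)
      (by norm_num) (fun d hd => by omega) (by omega)
  have small : ∀ {N : ℕ} {S : ℕ → Prop}, T.{u, v} F N S → (∀ d, S d → d ≤ 7) →
      T.{u, v} F N (fun d => d ≤ max 7 ((N - 2) / 4)) := fun h hS =>
    h.mono (fun d hd => le_trans (hS d hd) (le_max_left _ _))
  induction N using Nat.strong_induction_on with
  | _ N ih =>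
    by_cases h34 : 34 ≤ N
    · set m := (N - 2) / 4 with hm
      have hm8 : 8 ≤ m := by omega
      obtain ⟨r, hr⟩ := he
      have hN1 : 8 ≤ N - 2 * m := by omega
      have := ih (N - 2 * m) (by omega) hN1 ⟨r - m, by omega⟩
      refine this.step hcard (m := m) (by omega) ?_ (by omega) (by omega) (by omega) (by omega)
        (fun d hd => ?_) (le_max_right _ _)
      · rw [not_le, max_lt_iff]
        constructor <;> omega
      · refine le_trans hd (max_le_max le_rfl ?_)
        omega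
    · obtain ⟨r, hr⟩ := he
      have hcases : N = 8 ∨ N = 10 ∨ N = 12 ∨ N = 14 ∨ N = 16 ∨ N = 18 ∨ N = 20 ∨ N = 22 ∨
          N = 24 ∨ N = 26 ∨ N = 28 ∨ N = 30 ∨ N = 32 := by omega
      rcases hcases with rfl | rfl | rfl | rfl | rfl | rfl | rfl | rfl | rfl | rfl | rfl | rfl | rfl
      · exact small b8 (fun d hd => by omega)
      · exact small b10 (fun d hd => by omega)
      · exact small b12 (fun d hd => by omega)
      · exact small b14 (fun d hd => by omega)
      · exact small b16 (fun d hd => by omega)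
      · exact small b18 (fun d hd => by omega)
      · exact small b20 (fun d hd => by omega)
      · exact small b22 (fun d hd => by omega)
      · exact small b24 (fun d hd => by omega)
      · exact small b26 (fun d hd => by omega)
      · exact small b28 (fun d hd => by omega)
      · exact small b30 (fun d hd => by omega)
      · exact small b32 (fun d hd => by omega)

/-- **Ore for `Ω(V)` over the field with two elements.** -/
theorem ore_two (hcard : Nat.card F = 2) [FiniteDimensional F V] (hQ : Nondeg Q)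
    (hN : 8 ≤ Module.finrank F V) (g : V ≃ₗ[F] V) (hg : g ∈ Om Q) :
    ∃ k ∈ Om Q, ∃ y ∈ Om Q, g = k * y * k⁻¹ * y⁻¹ := by
  have := finite_of hcard
  have h2 := Cfsg.Agent.H194.GLTwo.two_eq_zero (Cfsg.Agent.H194.GLTwo.zero_or_one hcard)
  obtain ⟨k, hk, y, hy, e, -⟩ := T.all.{u, v} hcard _ hN
    (H141.SpinFacts.even_finrank h2 hQ) V Q hQ rfl g hg
  exact ⟨k, hk, y, hy.mem_Om (good_of_finite hQ (by omega)), e⟩

end Cfsg.Agent.H194.OreTwo
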