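import Mathlib
import Cfsg.Agent.H953.Rcf

/-!
# Matrices over the field with two elements as lists of bit vectors

`dec F m M` is the `m × m` matrix over `F` (`#F = 2`) whose `j`-th column has the binary digits of `M[j]`.
* `dec_mul` : `dec (mul M N) = dec M * dec N`.
* `exists_code` : every invertible matrix is similar to `dec F m (colsOf 0 L)` for some `L ∈ enum m`: a direct sum of
  companion matrices.
-/

set_option autoImplicit false

namespace Cfsg.Agent.H194.GLTwo

open Polynomial

/-- the combination of the columns `M` with coefficients the digits of `n` -/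
def app : List ℕ → ℕ → ℕ
  | [], _ => 0
  | c :: M, n => Nat.xor (if n % 2 = 1 then c else 0) (app M (n / 2))

def mul (M N : List ℕ) : List ℕ := N.map (app M)

def one (m : ℕ) : List ℕ := (List.range m).map (fun i => 2 ^ i)

variable {F : Type*} [Field F]

/-- digit -/
def bt (F : Type*) [Field F] (b : Bool) : F := if b then 1 else 0

theorem bt_xor (h2 : (2 : F) = 0) (a b : Bool) : bt F (a ^^ b) = bt F a + bt F b := by
  cases a <;> cases b <;> simp [bt]
  rw [← two_mul, mul_one, h2]

theorem bt_app (h2 : (2 : F) = 0) (M : List ℕ) (n i : ℕ) :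
    bt F ((app M n).testBit i) =
      ∑ s ∈ Finset.range M.length, bt F (n.testBit s) * bt F ((M.getD s 0).testBit i) := by
  induction M generalizing n with
  | nil => simp [app, bt]
  | cons c M ih =>
    rw [app, List.length_cons, Finset.sum_range_succ']
    change bt F (((if n % 2 = 1 then c else 0) ^^^ app M (n / 2)).testBit i) = _
    rw [Nat.testBit_xor, bt_xor h2, ih, add_comm]
    congr 1
    · refine Finset.sum_congr rfl fun s _ => ?_
      rw [List.getD_cons_succ, Nat.testBit_succ]
    · rw [List.getD_cons_zero, Nat.testBit_zero]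
      by_cases h : n % 2 = 1 <;> simp [h, bt]

theorem app_zero (M : List ℕ) : app M 0 = 0 := by
  induction M with
  | nil => rfl
  | cons c M ih =>
    rw [app]
    change ((if 0 % 2 = 1 then c else 0) ^^^ app M (0 / 2)) = 0
    simp [ih]

/-- the matrix with the columns `M` -/
def dec (F : Type*) [Field F] (m : ℕ) (M : List ℕ) : Matrix (Fin m) (Fin m) F :=
  Matrix.of fun i j => bt F ((M.getD j 0).testBit i)

theorem dec_apply (m : ℕ) (M : List ℕ) (i j : Fin m) : dec F m M i j = bt F ((M.getD j 0).testBit i) := rfl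

theorem getD_map (M N : List ℕ) (j : ℕ) : (N.map (app M)).getD j 0 = app M (N.getD j 0) := by
  rw [← app_zero M]
  rw [List.getD_map]
  rw [app_zero]

theorem dec_mul (h2 : (2 : F) = 0) {m : ℕ} {M : List ℕ} (hM : M.length = m) (N : List ℕ) :
    dec F m (mul M N) = dec F m M * dec F m N := by
  ext i j
  rw [dec_apply, mul, getD_map, bt_app h2, Matrix.mul_apply, hM, Finset.sum_range]
  refine Finset.sum_congr rfl fun s _ => ?_
  rw [dec_apply, dec_apply, mul_comm]

theorem one_getD {m : ℕ} (j : Fin m) : (one m).getD j 0 = 2 ^ (j : ℕ) := by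
  rw [List.getD_eq_getElem _ _ (by simp [one])]
  simp [one]

theorem one_length (m : ℕ) : (one m).length = m := by simp [one]

theorem dec_one (m : ℕ) : dec F m (one m) = 1 := by
  ext i j
  rw [dec_apply, one_getD, Nat.testBit_two_pow, Matrix.one_apply]
  by_cases h : i = j
  · subst h; simp [bt]
  · rw [if_neg h]
    have : (j : ℕ) ≠ i := fun h' => h (Fin.ext h'.symm)
    simp [bt, this]

theorem mul_length (M N : List ℕ) : (mul M N).length = N.length := by simp [mul]

/-! ### Rank at most one -/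

/-- all non-zero columns of `A - 1` coincide with `w` -/
def rk1w (w : ℕ) : ℕ → List ℕ → Bool
  | _, [] => true
  | t, c :: A => (Nat.beq (Nat.xor c (2 ^ t)) 0 || Nat.beq (Nat.xor c (2 ^ t)) w) && rk1w w (t + 1) A

theorem rk1w_spec {w : ℕ} {t : ℕ} {A : List ℕ} (h : rk1w w t A = true) {j : ℕ} (hj : j < A.length) :
    (A.getD j 0) ^^^ (2 ^ (t + j)) = 0 ∨ (A.getD j 0) ^^^ (2 ^ (t + j)) = w := by
  induction A generalizing t j with
  | nil => simp at hj
  | cons c A ih =>
    rw [rk1w, Bool.and_eq_true, Bool.or_eq_true] at h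
    cases j with
    | zero =>
      rw [List.getD_cons_zero, add_zero]
      rcases h.1 with h1 | h1
      · exact Or.inl (Nat.eq_of_beq_eq_true h1)
      · exact Or.inr (Nat.eq_of_beq_eq_true h1)
    | succ j =>
      rw [List.getD_cons_succ]
      have := ih h.2 (j := j) (by simpa using hj)
      rwa [show t + 1 + j = t + (j + 1) by omega] at this

theorem rank_le_one (h2 : (2 : F) = 0) {m : ℕ} {A : List ℕ} (hA : A.length = m) {w : ℕ}
    (h : rk1w w 0 A = true) : (dec F m A - 1).rank ≤ 1 := by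
  have : dec F m A - 1 = Matrix.vecMulVec (fun i : Fin m => bt F (w.testBit i))
      (fun j : Fin m => if (A.getD j 0) ^^^ (2 ^ (j : ℕ)) = 0 then 0 else 1) := by
    rw [← dec_one (F := F) m]
    ext i j
    rw [Matrix.sub_apply, dec_apply, dec_apply, Matrix.vecMulVec_apply]
    have h1 := rk1w_spec h (j := j) (by rw [hA]; exact j.2)
    rw [zero_add] at h1
    have h3 : bt F ((A.getD j 0).testBit i) - bt F (((one m).getD j 0).testBit i) =
        bt F ((A.getD j 0 ^^^ 2 ^ (j : ℕ)).testBit i) := by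
      rw [Nat.testBit_xor, bt_xor h2, one_getD]
      have h4 : ∀ x : F, -x = x := fun x => by
        rw [neg_eq_iff_add_eq_zero, ← two_mul, h2, zero_mul]
      rw [sub_eq_add_neg, h4]
    rw [h3]
    by_cases h0 : (A.getD j 0) ^^^ (2 ^ (j : ℕ)) = 0
    · rw [if_pos h0, h0]; simp [bt]
    · rw [if_neg h0, h1.resolve_left h0, mul_one]
  rw [this]
  exact Matrix.rank_vecMulVec_le _ _

/-! ### Direct sums of companion matrices -/

/-- the columns of the block diagonal matrix with blocks the companion matrices of `X ^ k + ∑ n_j X ^ j` -/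
def colsOf : ℕ → List (ℕ × ℕ) → List ℕ
  | _, [] => []
  | off, (k, n) :: L => (List.range (k - 1)).map (fun j => 2 ^ (off + j + 1)) ++
      (2 ^ off * n :: colsOf (off + k) L)

/-- the blocks, total size `m` -/
def enumF : ℕ → ℕ → List (List (ℕ × ℕ))
  | 0, _ => []
  | _ + 1, 0 => [[]]
  | f + 1, m + 1 => (List.range (m + 1)).flatMap fun k =>
      (List.range (2 ^ k)).flatMap fun n =>
        (enumF f (m - k)).map fun L => (k + 1, 2 * n + 1) :: L

def enum (m : ℕ) : List (List (ℕ × ℕ)) := enumF (m + 1) m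

/-- admissible block lists -/
def Adm (L : List (ℕ × ℕ)) : Prop := ∀ b ∈ L, 0 < b.1 ∧ b.2 < 2 ^ b.1 ∧ b.2 % 2 = 1

def tot (L : List (ℕ × ℕ)) : ℕ := (L.map Prod.fst).sum

theorem mem_enumF {L : List (ℕ × ℕ)} (hL : Adm L) : ∀ {f m : ℕ}, tot L = m → m < f → L ∈ enumF f m := by
  induction L with
  | nil =>
    intro f m hm hf
    obtain ⟨f, rfl⟩ : ∃ f', f = f' + 1 := ⟨f - 1, by omega⟩
    rw [← hm]
    simp [tot, enumF]
  | cons b L ih =>
    intro f m hm hf
    obtain ⟨k, n⟩ := b
    obtain ⟨h1, h2, h3⟩ := hL (k, n) (by simp)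
    have hL' : Adm L := fun b hb => hL b (List.mem_cons_of_mem _ hb)
    simp only at h1 h2 h3
    have hm' : k + tot L = m := by rw [← hm]; simp [tot]
    obtain ⟨f, rfl⟩ : ∃ f', f = f' + 1 := ⟨f - 1, by omega⟩
    obtain ⟨m, rfl⟩ : ∃ m', m = m' + 1 := ⟨m - 1, by omega⟩
    obtain ⟨k, rfl⟩ : ∃ k', k = k' + 1 := ⟨k - 1, by omega⟩
    rw [enumF, List.mem_flatMap]
    refine ⟨k, List.mem_range.2 (by omega), ?_⟩
    rw [List.mem_flatMap]
    refine ⟨n / 2, List.mem_range.2 ?_, ?_⟩
    · rw [pow_succ] at h2; omega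
    · rw [List.mem_map]
      refine ⟨L, ih hL' (by omega) (by omega), ?_⟩
      have : 2 * (n / 2) + 1 = n := by omega
      rw [this]

theorem mem_enum {L : List (ℕ × ℕ)} (hL : Adm L) {m : ℕ} (hm : tot L = m) : L ∈ enum m :=
  mem_enumF hL hm (Nat.lt_succ_self m)

theorem colsOf_length {L : List (ℕ × ℕ)} (hL : Adm L) (off : ℕ) : (colsOf off L).length = tot L := by
  induction L generalizing off with
  | nil => rfl
  | cons b L ih =>
    obtain ⟨k, n⟩ := b
    have h1 := (hL (k, n) (by simp)).1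
    have hL' : Adm L := fun b hb => hL b (List.mem_cons_of_mem _ hb)
    simp only at h1
    rw [colsOf, List.length_append, List.length_cons, ih hL']
    simp [tot]
    omega

section Space

variable {V : Type*} [AddCommGroup V] [Module F V]

/-- combination of the vectors `e` -/
def cmb (N : ℕ) (e : ℕ → V) (n : ℕ) : V := ∑ s ∈ Finset.range N, bt F (n.testBit s) • e s

theorem cmb_two_pow {N : ℕ} (e : ℕ → V) {s : ℕ} (hs : s < N) : cmb (F := F) N e (2 ^ s) = e s := by
  rw [cmb, Finset.sum_eq_single s]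
  · rw [Nat.testBit_two_pow]; simp [bt]
  · intro t _ ht
    rw [Nat.testBit_two_pow]
    simp [bt, Ne.symm ht]
  · intro h; exact absurd (Finset.mem_range.2 hs) h

theorem cmb_shift {N : ℕ} (e : ℕ → V) {off k n : ℕ} (hn : n < 2 ^ k) (hN : off + k ≤ N) :
    cmb (F := F) N e (2 ^ off * n) = ∑ j ∈ Finset.range k, bt F (n.testBit j) • e (off + j) := by
  rw [cmb]
  obtain ⟨r, rfl⟩ := Nat.exists_eq_add_of_le hN
  rw [Finset.sum_range_add, Finset.sum_range_add]
  have h1 : ∑ x ∈ Finset.range off, bt F ((2 ^ off * n).testBit x) • e x = 0 := by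
    refine Finset.sum_eq_zero fun x hx => ?_
    rw [Nat.testBit_two_pow_mul]
    have := Finset.mem_range.1 hx
    simp [bt, show ¬ (off ≤ x) by omega]
  have h2 : ∑ x ∈ Finset.range r, bt F ((2 ^ off * n).testBit (off + k + x)) • e (off + k + x) = 0 := by
    refine Finset.sum_eq_zero fun x _ => ?_
    rw [Nat.testBit_two_pow_mul, Nat.testBit_lt_two_pow (x := n) (i := off + k + x - off)]
    · simp [bt]
    · exact lt_of_lt_of_le hn (Nat.pow_le_pow_right (by norm_num) (by omega))
  rw [h1, h2, zero_add, add_zero]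
  refine Finset.sum_congr rfl fun x _ => ?_
  rw [Nat.testBit_two_pow_mul, Nat.add_sub_cancel_left]
  simp

/-- the number with the digits of the coefficients of `g` -/
noncomputable def num [DecidableEq F] (g : F[X]) : ℕ :=
  Nat.ofBits (fun j : Fin g.natDegree => decide (g.coeff j ≠ 0))

theorem bt_num [DecidableEq F] (hF : ∀ x : F, x = 0 ∨ x = 1) (g : F[X]) {j : ℕ} (hj : j < g.natDegree) :
    bt F ((num g).testBit j) = g.coeff j := by
  rw [num, Nat.testBit_ofBits_lt _ _ hj]
  rcases hF (g.coeff j) with h | h <;> simp [bt, h]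

theorem num_lt [DecidableEq F] (g : F[X]) : num g < 2 ^ g.natDegree := Nat.ofBits_lt_two_pow _

theorem blk [DecidableEq F] (hF : ∀ x : F, x = 0 ∨ x = 1) (h2 : (2 : F) = 0) (T : Module.End F V) {g : F[X]}
    (hg : g.Monic) {v : V} (hv : aeval T g v = 0) {e : ℕ → V} {off N : ℕ}
    (he : ∀ j < g.natDegree, e (off + j) = (T ^ j) v) (hN : off + g.natDegree ≤ N) {t : ℕ}
    (ht : t < g.natDegree) :
    T (e (off + t)) = cmb (F := F) N e
      (if t + 1 < g.natDegree then 2 ^ (off + t + 1) else 2 ^ off * num g) := by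
  have h4 : ∀ x : V, -x = x := fun x => by
    rw [neg_eq_iff_add_eq_zero, ← two_smul F, h2, zero_smul]
  rw [he t ht, ← Module.End.mul_apply, ← pow_succ']
  by_cases h : t + 1 < g.natDegree
  · rw [if_pos h, cmb_two_pow _ (by omega), add_assoc, he _ h]
  · rw [if_neg h, cmb_shift _ (num_lt g) hN]
    have h5 : t + 1 = g.natDegree := by omega
    rw [h5]
    have h6 : aeval T g v = (T ^ g.natDegree) v + ∑ j ∈ Finset.range g.natDegree, g.coeff j • (T ^ j) v := by
      rw [aeval_eq_sum_range, Finset.sum_range_succ, LinearMap.add_apply, hg.coeff_natDegree, one_smul,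
        LinearMap.sum_apply, add_comm]
      rfl
    rw [h6, add_comm] at hv
    rw [eq_neg_of_add_eq_zero_right hv, h4]
    refine Finset.sum_congr rfl fun j hj => ?_
    have hj' := Finset.mem_range.1 hj
    rw [bt_num hF g hj', he j hj']

/-- the vectors `T ^ j v` -/
def vecs (T : Module.End F V) (Ls : List (V × F[X])) : List V :=
  Ls.flatMap fun x => (List.range x.2.natDegree).map fun j => (T ^ j) x.1

noncomputable def code [DecidableEq F] (Ls : List (V × F[X])) : List (ℕ × ℕ) :=
  Ls.map fun x => (x.2.natDegree, num x.2)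

theorem vecs_length [DecidableEq F] (T : Module.End F V) (Ls : List (V × F[X])) :
    (vecs T Ls).length = tot (code Ls) := by
  induction Ls with
  | nil => rfl
  | cons x Ls ih =>
    change ((List.range x.2.natDegree).map (fun j => (T ^ j) x.1) ++ vecs T Ls).length = _
    rw [List.length_append, ih]
    simp [code, tot]

theorem all [DecidableEq F] (hF : ∀ x : F, x = 0 ∨ x = 1) (h2 : (2 : F) = 0) (T : Module.End F V)
    {e : ℕ → V} {N : ℕ} {Ls : List (V × F[X])}
    (hLs : ∀ x ∈ Ls, x.2.Monic ∧ 0 < x.2.natDegree ∧ aeval T x.2 x.1 = 0) {off : ℕ}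
    (he : ∀ t < (vecs T Ls).length, e (off + t) = (vecs T Ls).getD t 0)
    (hN : off + (vecs T Ls).length ≤ N) {t : ℕ} (ht : t < (vecs T Ls).length) :
    T (e (off + t)) = cmb (F := F) N e ((colsOf off (code Ls)).getD t 0) := by
  induction Ls generalizing off t with
  | nil => simp [vecs] at ht
  | cons x Ls ih =>
    obtain ⟨v, g⟩ := x
    obtain ⟨hg, hd, hv⟩ := hLs (v, g) (by simp)
    simp only at hg hd hv
    have hE : vecs T ((v, g) :: Ls) = (List.range g.natDegree).map (fun j => (T ^ j) v) ++ vecs T Ls := rfl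
    rw [hE] at he hN ht
    rw [List.length_append, List.length_map, List.length_range] at he hN ht
    have hC : colsOf off (code ((v, g) :: Ls)) = (List.range (g.natDegree - 1)).map (fun j => 2 ^ (off + j + 1)) ++
      (2 ^ off * num g :: colsOf (off + g.natDegree) (code Ls)) := rfl
    have he1 : ∀ j < g.natDegree, e (off + j) = (T ^ j) v := by
      intro j hj
      rw [he j (by omega), List.getD_append _ _ _ j (by simpa using hj),
        List.getD_eq_getElem _ _ (by simpa using hj : j < _)]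
      simp
    rw [hC]
    by_cases h : t < g.natDegree
    · rw [blk (N := N) hF h2 T hg hv he1 (by omega) h]
      congr 1
      have hlen : ((List.range (g.natDegree - 1)).map (fun j => 2 ^ (off + j + 1))).length = g.natDegree - 1 := by
        simp
      by_cases h' : t + 1 < g.natDegree
      · rw [if_pos h', List.getD_append _ _ _ t (by rw [hlen]; omega),
          List.getD_eq_getElem _ _ (by rw [hlen]; omega : t < _)]
        simp
      · rw [if_neg h', List.getD_append_right _ _ _ t (by rw [hlen]; omega), hlen]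
        have : t - (g.natDegree - 1) = 0 := by omega
        rw [this, List.getD_cons_zero]
    · obtain ⟨s, rfl⟩ : ∃ s, t = g.natDegree + s := ⟨t - g.natDegree, by omega⟩
      rw [List.getD_append_right _ _ _ (g.natDegree + s) (by simp; omega)]
      have h7 : g.natDegree + s - ((List.range (g.natDegree - 1)).map (fun j => 2 ^ (off + j + 1))).length =
          s + 1 := by
        simp; omega
      rw [h7, List.getD_cons_succ, ← add_assoc]
      refine ih (fun x hx => hLs x (List.mem_cons_of_mem _ hx)) ?_ (by omega) (by omega)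
      intro t ht
      rw [add_assoc, he _ (by omega), List.getD_append_right _ _ _ (g.natDegree + t) (by simp)]
      congr 1
      simp

end Space

theorem exists_code (hF : ∀ x : F, x = 0 ∨ x = 1) (h2 : (2 : F) = 0) {m : ℕ} (A : GL (Fin m) F) :
    ∃ L ∈ enum m, ∃ P : GL (Fin m) F,
      (A : Matrix (Fin m) (Fin m) F) * (P : Matrix (Fin m) (Fin m) F) =
        (P : Matrix (Fin m) (Fin m) F) * dec F m (colsOf 0 L) := by
  classical
  set T : Module.End F (Fin m → F) := Matrix.toLin' (A : Matrix (Fin m) (Fin m) F) with hT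
  have hTinj : Function.Injective T := by
    intro x y hxy
    have : (A⁻¹ : GL (Fin m) F).1.mulVec (T x) = (A⁻¹ : GL (Fin m) F).1.mulVec (T y) := by rw [hxy]
    simpa [hT, Matrix.toLin'_apply, Matrix.mulVec_mulVec] using this
  obtain ⟨d, g, v, b, hg, hb, hann, -⟩ := Cfsg.Agent.H953.exists_basis T
  have hmonic : ∀ i, (g i).Monic := by
    intro i
    obtain ⟨q, e, hq, -, -, h⟩ := hg i
    rw [h]; exact hq.pow e
  have hdeg : ∀ i, 0 < (g i).natDegree := by
    intro i
    obtain ⟨q, e, hq, hi, he, h⟩ := hg i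
    rw [h, hq.natDegree_pow]
    exact Nat.mul_pos he hi.natDegree_pos
  have hc0 : ∀ i, (g i).coeff 0 ≠ 0 := by
    intro i h0
    obtain ⟨f, hf⟩ := X_dvd_iff.2 h0
    have h1 : aeval T (g i) (v i) = 0 := (hann i _).2 dvd_rfl
    rw [hf, map_mul, aeval_X, Module.End.mul_apply] at h1
    have h3 : aeval T f (v i) = 0 := hTinj (by rw [h1, map_zero])
    have h4 := (hann i _).1 h3
    have hf0 : f ≠ 0 := by
      rintro rfl
      rw [mul_zero] at hf
      exact (hmonic i).ne_zero hf
    have h5 := natDegree_le_of_dvd h4 hf0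
    rw [hf, natDegree_X_mul hf0] at h5
    omega
  set Ls : List ((Fin m → F) × F[X]) := List.ofFn (fun i => (v i, g i)) with hLs
  have hmem : ∀ x ∈ Ls, ∃ i, x = (v i, g i) := by
    intro x hx
    rw [hLs, List.mem_ofFn] at hx
    obtain ⟨i, hi⟩ := hx
    exact ⟨i, hi.symm⟩
  have hprop : ∀ x ∈ Ls, x.2.Monic ∧ 0 < x.2.natDegree ∧ aeval T x.2 x.1 = 0 := by
    intro x hx
    obtain ⟨i, rfl⟩ := hmem x hx
    exact ⟨hmonic i, hdeg i, (hann i _).2 dvd_rfl⟩
  have hAdm : Adm (code Ls) := by
    intro c hc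
    rw [code, List.mem_map] at hc
    obtain ⟨x, hx, rfl⟩ := hc
    obtain ⟨i, rfl⟩ := hmem x hx
    refine ⟨hdeg i, num_lt _, ?_⟩
    have h1 := bt_num hF (g i) (hdeg i)
    have h3 : (num (g i)).testBit 0 = true := by
      by_contra h
      rw [Bool.not_eq_true] at h
      rw [h] at h1
      exact hc0 i (by rw [← h1]; rfl)
    rw [Nat.testBit_zero] at h3
    simpa using h3
  have hcard : Fintype.card (Σ i : Fin d, Fin (g i).natDegree) = m := by
    rw [← Module.finrank_eq_card_basis b, Module.finrank_fintype_fun_eq_card, Fintype.card_fin]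
  have htot : tot (code Ls) = m := by
    refine Eq.trans ?_ hcard
    rw [Fintype.card_sigma, hLs, code, tot, List.map_map, List.map_ofFn, List.sum_ofFn]
    simp
  have hlen : (vecs T Ls).length = m := by rw [vecs_length, htot]
  let e : ℕ → (Fin m → F) := fun t => (vecs T Ls).getD t 0
  have hspan : ⊤ ≤ Submodule.span F (Set.range fun t : Fin m => e t) := by
    rw [← b.span_eq, Submodule.span_le]
    rintro _ ⟨⟨i, j⟩, rfl⟩
    apply Submodule.subset_span
    have h1 : (T ^ (j : ℕ)) (v i) ∈ vecs T Ls := by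
      rw [vecs, List.mem_flatMap]
      refine ⟨(v i, g i), ?_, ?_⟩
      · rw [hLs, List.mem_ofFn]; exact ⟨i, rfl⟩
      · rw [List.mem_map]
        exact ⟨j, List.mem_range.2 j.2, rfl⟩
    obtain ⟨t, ht, h3⟩ := List.getElem_of_mem h1
    refine ⟨⟨t, by rw [← hlen]; exact ht⟩, ?_⟩
    simp only [e]
    rw [hb, List.getD_eq_getElem _ _ ht, h3]
  let b' : Module.Basis (Fin m) F (Fin m → F) :=
    basisOfTopLeSpanOfCardEqFinrank (fun t : Fin m => e t) hspan
      (by rw [Module.finrank_fintype_fun_eq_card])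
  have hb' : ∀ t : Fin m, b' t = e t := fun t => by simp [b']
  have hTe : ∀ t < m, T (e t) = cmb (F := F) m e ((colsOf 0 (code Ls)).getD t 0) := by
    intro t ht
    have := all (N := m) (e := e) hF h2 T hprop (off := 0) (fun s _ => by rw [zero_add]) (by omega) (t := t)
      (by rw [hlen]; exact ht)
    rwa [zero_add] at this
  have h3 : LinearMap.toMatrix b' b' T = dec F m (colsOf 0 (code Ls)) := by
    ext i j
    rw [LinearMap.toMatrix_apply, hb', hTe j j.2, cmb, Finset.sum_range]
    have : ∀ s : Fin m, e s = b' s := fun s => (hb' s).symm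
    simp only [this]
    rw [b'.repr_sum_self, dec_apply]
  refine ⟨code Ls, mem_enum hAdm htot, ?_⟩
  let S := Pi.basisFun F (Fin m)
  let P : GL (Fin m) F := ⟨S.toMatrix b', b'.toMatrix S, by simp, by simp⟩
  refine ⟨P, ?_⟩
  have h4 := basis_toMatrix_mul_linearMap_toMatrix b' S b' T
  have h5 := linearMap_toMatrix_mul_basis_toMatrix b' S S T
  have h6 : LinearMap.toMatrix S S T = (A : Matrix (Fin m) (Fin m) F) := by
    rw [hT]
    exact LinearMap.toMatrix'_toLin' _
  rw [← h3]
  change (A : Matrix (Fin m) (Fin m) F) * S.toMatrix b' = S.toMatrix b' * _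
  rw [h4, ← h6, h5]

/-! ### Certificates -/

/-- `P A P⁻¹ C X = X C`. -/
def good (m : ℕ) (C A : List ℕ) (c : List (List ℕ)) : Bool :=
  match c with
  | [P, P', X, X'] =>
    (P.length == m) && (P'.length == m) && (X.length == m) && (X'.length == m) &&
    (mul P P' == one m) && (mul X X' == one m) &&
    (mul (mul (mul (mul P A) P') C) X == mul X C)
  | _ => false

/-- the difference of some column -/
def wit : ℕ → List ℕ → ℕ
  | _, [] => 0
  | t, c :: A => if Nat.xor c (2 ^ t) = 0 then wit (t + 1) A else Nat.xor c (2 ^ t)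

def chk (m : ℕ) (C : List ℕ) (L : List (ℕ × ℕ)) (c : List (List ℕ)) : Bool :=
  ((colsOf 0 L).length == m) && (rk1w (wit 0 (colsOf 0 L)) 0 (colsOf 0 L) || good m C (colsOf 0 L) c)

def all2 {α β : Type*} (p : α → β → Bool) : List α → List β → Bool
  | [], _ => true
  | _ :: _, [] => false
  | a :: l, b :: l' => p a b && all2 p l l'

theorem all2_spec {α β : Type*} {p : α → β → Bool} {l : List α} {l' : List β} (h : all2 p l l' = true) :
    ∀ a ∈ l, ∃ b, p a b = true := by
  induction l generalizing l' with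
  | nil => simp
  | cons a l ih =>
    cases l' with
    | nil => simp [all2] at h
    | cons b l' =>
      rw [all2, Bool.and_eq_true] at h
      intro a' ha'
      rcases List.mem_cons.1 ha' with rfl | h'
      · exact ⟨b, h.1⟩
      · exact ih h.2 a' h'

theorem main (hF : ∀ x : F, x = 0 ∨ x = 1) (h2 : (2 : F) = 0) {m : ℕ} {C C' : List ℕ} (hC : C.length = m)
    (hC' : mul C C' = one m)
    {cert : List (List (List ℕ))} (h : all2 (chk m C) (enum m) cert = true) (A : GL (Fin m) F)
    (hA : 2 ≤ ((A : Matrix (Fin m) (Fin m) F) - 1).rank) :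
    ∃ y : GL (Fin m) F, (y : Matrix (Fin m) (Fin m) F).charpoly = (dec F m C).charpoly ∧
      ((A * y : GL (Fin m) F) : Matrix (Fin m) (Fin m) F).charpoly = (dec F m C).charpoly := by
  obtain ⟨L, hL, Q, hQ⟩ := exists_code hF h2 A
  obtain ⟨c, hc⟩ := all2_spec h L hL
  rw [chk, Bool.and_eq_true, Bool.or_eq_true] at hc
  have hlen : (colsOf 0 L).length = m := by simpa using hc.1
  have hAd : (A : Matrix (Fin m) (Fin m) F) =
      (Q : Matrix (Fin m) (Fin m) F) * dec F m (colsOf 0 L) * (Q⁻¹ : GL (Fin m) F) := by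
    rw [← hQ, mul_assoc, ← Units.val_mul, mul_inv_cancel, Units.val_one, mul_one]
  rcases hc.2 with hc | hc
  · exfalso
    have h1 := rank_le_one (F := F) h2 hlen hc
    have h3 : (A : Matrix (Fin m) (Fin m) F) - 1 =
        (Q : Matrix (Fin m) (Fin m) F) * (dec F m (colsOf 0 L) - 1) * (Q⁻¹ : GL (Fin m) F) := by
      rw [mul_sub, sub_mul, ← hAd, mul_one, ← Units.val_mul, mul_inv_cancel, Units.val_one]
    have hu : ∀ U : GL (Fin m) F, IsUnit (U : Matrix (Fin m) (Fin m) F).det := fun U =>
      (Matrix.isUnit_iff_isUnit_det _).1 U.isUnit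
    rw [h3, Matrix.rank_mul_eq_left_of_isUnit_det _ _ (hu _), Matrix.rank_mul_eq_right_of_isUnit_det _ _ (hu _)] at hA
    omega
  · obtain ⟨P, P', X, X', rfl⟩ : ∃ P P' X X', c = [P, P', X, X'] := by
      revert hc
      unfold good
      split
      · intro _; exact ⟨_, _, _, _, rfl⟩
      · intro h; exact absurd h (by simp)
    simp only [good, Bool.and_eq_true, beq_iff_eq] at hc
    obtain ⟨⟨⟨⟨⟨⟨l1, l2⟩, l3⟩, l4⟩, e1⟩, e2⟩, e3⟩ := hc
    have f1 : dec F m P * dec F m P' = 1 := by rw [← dec_mul h2 l1, e1, dec_one]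
    have f2 : dec F m X * dec F m X' = 1 := by rw [← dec_mul h2 l3, e2, dec_one]
    have f3 : dec F m P * dec F m (colsOf 0 L) * dec F m P' * dec F m C * dec F m X =
        dec F m X * dec F m C := by
      have hl1 : (mul P (colsOf 0 L)).length = m := by rw [mul_length, hlen]
      have hl2 : (mul (mul P (colsOf 0 L)) P').length = m := by rw [mul_length, l2]
      have hl3 : (mul (mul (mul P (colsOf 0 L)) P') C).length = m := by rw [mul_length, hC]
      rw [← dec_mul h2 l3, ← e3, dec_mul h2 hl3, dec_mul h2 hl2, dec_mul h2 hl1, dec_mul h2 l1]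
    let P₁ : GL (Fin m) F := ⟨dec F m P, dec F m P', f1, by rw [mul_eq_one_comm]; exact f1⟩
    let X₁ : GL (Fin m) F := ⟨dec F m X, dec F m X', f2, by rw [mul_eq_one_comm]; exact f2⟩
    have f4 : dec F m C * dec F m C' = 1 := by rw [← dec_mul h2 hC, hC', dec_one]
    let C₁ : GL (Fin m) F := ⟨dec F m C, dec F m C', f4, by rw [mul_eq_one_comm]; exact f4⟩
    have hD : ((Q⁻¹ * A * Q : GL (Fin m) F) : Matrix (Fin m) (Fin m) F) = dec F m (colsOf 0 L) := by
      rw [Units.val_mul, Units.val_mul, mul_assoc, hQ, ← mul_assoc, ← Units.val_mul, inv_mul_cancel,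
        Units.val_one, one_mul]
    have f5 : P₁ * (Q⁻¹ * A * Q) * P₁⁻¹ * C₁ * X₁ = X₁ * C₁ := by
      apply Units.ext
      simp only [Units.val_mul] at hD ⊢
      rw [hD]
      exact f3
    refine ⟨(Q * P₁⁻¹) * C₁ * (Q * P₁⁻¹)⁻¹, ?_, ?_⟩
    · rw [Units.val_mul, Units.val_mul, Matrix.coe_units_inv]
      exact Matrix.charpoly_units_conj (Q * P₁⁻¹) (dec F m C)
    · have h7 : A * ((Q * P₁⁻¹) * C₁ * (Q * P₁⁻¹)⁻¹) = (Q * P₁⁻¹ * X₁) * C₁ * (Q * P₁⁻¹ * X₁)⁻¹ := by
        have h8 : P₁ * (Q⁻¹ * A * Q) * P₁⁻¹ * C₁ = X₁ * C₁ * X₁⁻¹ := by rw [← f5]; group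
        calc A * ((Q * P₁⁻¹) * C₁ * (Q * P₁⁻¹)⁻¹)
            = Q * P₁⁻¹ * (P₁ * (Q⁻¹ * A * Q) * P₁⁻¹ * C₁) * P₁ * Q⁻¹ := by group
          _ = _ := by rw [h8]; group
      rw [h7, Units.val_mul, Units.val_mul, Matrix.coe_units_inv]
      exact Matrix.charpoly_units_conj (Q * P₁⁻¹ * X₁) (dec F m C)

end Cfsg.Agent.H194.GLTwo
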