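import Mathlib
import Cfsg.Agent.H194.GLTwo

/-!
# Prescribed irreducible characteristic polynomials in `GL_m(2)`, `m = 3, 4, 5, 6`

`gl_two_three`, ..., `gl_two_six` : for `A ∈ GL_m(F)`, `#F = 2`, `2 ≤ rank (A - 1)`, there is `y ∈ GL_m(F)` such that
`y` and `A y` both have the characteristic polynomial `X ^ 3 + X + 1`, `X ^ 4 + X + 1`, `X ^ 5 + X ^ 2 + 1`,
`X ^ 6 + X + 1`.
-/

set_option autoImplicit false

namespace Cfsg.Agent.H194.GLTwo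

open Polynomial

def C3 : List ℕ := [2, 4, 3]
def D3 : List ℕ := [5, 1, 2]

def cert3 : List (List (List ℕ)) :=
  [[],
   [],
   [[1, 7, 4], [1, 7, 4], [1, 6, 4], [1, 6, 4]],
   [],
   [[7, 1, 4], [2, 7, 4], [7, 2, 4], [7, 2, 4]],
   [[7, 1, 4], [2, 7, 4], [7, 3, 5], [7, 5, 3]],
   [[5, 1, 2], [2, 4, 3], [5, 2, 3], [6, 2, 7]],
   [[6, 1, 3], [2, 6, 7], [6, 2, 7], [5, 2, 3]],
   [[6, 7, 3], [3, 7, 6], [6, 3, 7], [5, 7, 6]]]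

theorem chk3 : all2 (chk 3 C3) (enum 3) cert3 = true := by decide +kernel

def C4 : List ℕ := [2, 4, 8, 3]
def D4 : List ℕ := [9, 1, 2, 4]

def cert4 : List (List (List ℕ)) :=
  [[],
   [],
   [[6, 8, 4, 3], [13, 5, 4, 2], [6, 11, 1, 5], [4, 13, 12, 11]],
   [],
   [[11, 7, 3, 2], [12, 8, 6, 5], [11, 1, 2, 7], [2, 4, 14, 7]],
   [[15, 12, 14, 4], [5, 6, 8, 10], [15, 5, 8, 1], [8, 7, 10, 4]],
   [[1, 5, 6, 10], [1, 7, 3, 15], [1, 13, 15, 8], [1, 6, 11, 8]],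
   [[1, 9, 14, 3], [1, 9, 14, 3], [1, 11, 6, 8], [1, 11, 15, 8]],
   [[4, 12, 11, 13], [10, 13, 1, 3], [4, 15, 10, 6], [7, 9, 1, 13]],
   [],
   [[11, 15, 1, 13], [4, 10, 3, 15], [11, 9, 13, 5], [14, 3, 6, 12]],
   [[2, 12, 10, 7], [14, 1, 7, 5], [2, 9, 8, 4], [6, 1, 8, 4]],
   [[2, 4, 14, 11], [14, 1, 2, 7], [2, 6, 10, 1], [8, 1, 3, 5]],
   [[8, 12, 9, 10], [5, 9, 3, 1], [8, 3, 13, 10], [11, 9, 14, 1]],
   [[8, 6, 15, 4], [7, 10, 8, 1], [8, 9, 12, 15], [3, 15, 5, 1]],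
   [[8, 1, 14, 2], [2, 8, 13, 1], [8, 12, 13, 15], [6, 12, 3, 1]],
   [[11, 9, 6, 14], [14, 3, 7, 12], [11, 7, 14, 4], [13, 7, 8, 11]],
   [[2, 15, 12, 6], [7, 1, 9, 13], [2, 9, 13, 10], [11, 1, 6, 9]],
   [[6, 5, 12, 2], [11, 8, 9, 13], [6, 15, 4, 8], [11, 5, 4, 8]],
   [[3, 12, 14, 10], [7, 6, 12, 14], [3, 13, 15, 6], [7, 6, 14, 11]],
   [[13, 14, 5, 15], [10, 9, 14, 5], [13, 7, 5, 12], [9, 6, 13, 5]],
   [[1, 12, 2, 7], [1, 4, 13, 15], [1, 7, 5, 13], [1, 6, 5, 12]],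
   [[14, 11, 3, 2], [12, 8, 15, 6], [14, 15, 9, 4], [3, 14, 8, 7]],
   [[10, 2, 7, 9], [11, 2, 13, 3], [10, 9, 6, 13], [13, 14, 10, 15]],
   [[11, 4, 6, 12], [13, 6, 2, 10], [11, 13, 14, 2], [14, 8, 11, 7]],
   [[12, 15, 4, 10], [14, 13, 4, 5], [12, 14, 4, 5], [12, 3, 4, 5]],
   [[9, 1, 12, 11], [2, 9, 7, 3], [9, 12, 15, 7], [13, 11, 14, 12]]]

theorem chk4 : all2 (chk 4 C4) (enum 4) cert4 = true := by decide +kernel

def C5 : List ℕ := [2, 4, 8, 16, 5]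
def D5 : List ℕ := [18, 1, 2, 4, 8]

def cert5 : List (List (List ℕ)) :=
  [[],
   [],
   [[2, 31, 30, 24, 20], [6, 1, 13, 21, 29], [2, 8, 4, 16, 9], [18, 1, 4, 2, 8]],
   [],
   [[31, 22, 27, 30, 25], [9, 20, 5, 10, 19], [31, 30, 25, 12, 3], [3, 19, 22, 30, 25]],
   [[5, 29, 8, 23, 9], [20, 14, 21, 4, 7], [5, 20, 18, 31, 4], [17, 22, 16, 13, 18]],
   [[18, 14, 8, 5, 7], [22, 24, 30, 4, 25], [18, 6, 4, 5, 15], [12, 6, 4, 30, 7]],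
   [[4, 28, 17, 23, 8], [23, 13, 1, 16, 19], [4, 25, 8, 1, 27], [8, 18, 1, 4, 14]],
   [[4, 11, 10, 13, 27], [6, 11, 1, 15, 18], [4, 25, 1, 20, 27], [4, 18, 1, 15, 9]],
   [],
   [[7, 27, 15, 29, 11], [11, 30, 20, 5, 18], [7, 24, 23, 29, 9], [23, 11, 29, 7, 5]],
   [[1, 4, 30, 21, 22], [1, 25, 2, 20, 11], [1, 20, 24, 22, 6], [1, 10, 26, 28, 24]],
   [[9, 25, 31, 2, 8], [17, 8, 14, 16, 3], [9, 20, 18, 1, 2], [8, 16, 22, 9, 20]],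
   [[14, 4, 28, 20, 17], [26, 15, 2, 12, 10], [14, 24, 8, 13, 31], [23, 30, 27, 4, 6]],
   [[4, 23, 11, 6, 31], [31, 9, 1, 18, 21], [4, 18, 21, 24, 16], [21, 18, 1, 24, 16]],
   [[12, 29, 2, 27, 13], [17, 4, 14, 15, 18], [12, 7, 23, 18, 1], [16, 14, 28, 29, 6]],
   [[11, 18, 15, 5, 13], [13, 20, 5, 24, 22], [11, 1, 8, 7, 22], [2, 7, 13, 4, 26]],
   [[5, 7, 26, 9, 23], [29, 3, 28, 21, 18], [5, 4, 27, 7, 20], [3, 9, 2, 28, 18]],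
   [[28, 7, 25, 26, 16], [11, 7, 14, 31, 16], [28, 29, 2, 7, 19], [3, 4, 15, 25, 23]],
   [[20, 25, 16, 18, 17], [20, 12, 5, 18, 4], [20, 4, 9, 17, 14], [11, 29, 2, 15, 3]],
   [[29, 13, 6, 15, 30], [27, 10, 14, 23, 3], [29, 5, 7, 16, 25], [19, 6, 17, 11, 8]],
   [[4, 28, 6, 18, 13], [31, 5, 1, 14, 13], [4, 25, 26, 8, 27], [20, 18, 1, 8, 30]],
   [[30, 26, 3, 23, 11], [29, 25, 3, 20, 15], [30, 20, 8, 1, 27], [8, 7, 25, 4, 27]],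
   [[30, 5, 7, 24, 23], [13, 6, 15, 28, 20], [30, 6, 11, 3, 9], [28, 20, 22, 12, 15]],
   [[21, 25, 10, 7, 3], [15, 31, 24, 27, 22], [21, 15, 9, 22, 23], [24, 17, 23, 28, 14]],
   [[13, 17, 1, 19, 5], [4, 10, 20, 17, 6], [13, 28, 31, 15, 8], [15, 9, 30, 16, 12]],
   [[22, 23, 3, 6, 13], [3, 7, 15, 28, 9], [22, 1, 19, 6, 10], [2, 15, 7, 31, 9]],
   [],
   [[4, 25, 20, 14, 27], [28, 18, 1, 27, 5], [4, 8, 13, 15, 22], [7, 12, 1, 2, 29]],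
   [[13, 27, 2, 6, 28], [26, 4, 12, 23, 11], [13, 6, 16, 21, 25], [25, 23, 21, 13, 4]],
   [[31, 9, 19, 30, 28], [9, 24, 14, 11, 21], [31, 27, 30, 20, 13], [5, 26, 3, 22, 11]],
   [[16, 1, 15, 19, 26], [2, 11, 23, 26, 1], [16, 8, 1, 13, 26], [4, 19, 14, 2, 1]],
   [[3, 16, 26, 27, 13], [12, 13, 23, 11, 2], [3, 20, 26, 21, 28], [10, 11, 31, 18, 29]],
   [[22, 28, 1, 20, 24], [4, 9, 18, 10, 26], [22, 26, 15, 18, 20], [22, 17, 9, 10, 25]],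
   [[20, 1, 18, 25, 15], [2, 25, 28, 23, 29], [20, 14, 16, 31, 28], [14, 22, 5, 17, 4]],
   [[10, 19, 26, 1, 7], [8, 15, 23, 14, 5], [10, 22, 11, 9, 13], [5, 12, 24, 13, 22]],
   [[21, 10, 4, 16, 22], [13, 28, 4, 30, 8], [21, 5, 31, 17, 24], [11, 22, 9, 19, 3]],
   [[21, 1, 12, 16, 22], [2, 19, 11, 15, 8], [21, 29, 11, 16, 23], [22, 17, 31, 3, 8]],
   [[26, 10, 21, 18, 20], [20, 11, 19, 9, 3], [26, 9, 20, 17, 1], [16, 11, 28, 18, 24]],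
   [[12, 15, 14, 11, 28], [6, 5, 10, 11, 17], [12, 17, 1, 4, 2], [4, 16, 8, 9, 6]],
   [[28, 25, 31, 7, 11], [14, 11, 13, 21, 25], [28, 3, 2, 6, 19], [6, 4, 12, 31, 18]],
   [[2, 13, 30, 12, 21], [10, 1, 23, 31, 13], [2, 16, 10, 4, 5], [24, 1, 8, 5, 2]],
   [[12, 10, 8, 31, 26], [29, 6, 5, 4, 18], [12, 14, 27, 16, 13], [17, 3, 31, 30, 8]],
   [[19, 14, 7, 31, 23], [30, 11, 17, 24, 20], [19, 1, 4, 7, 29], [2, 14, 4, 27, 13]],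
   [[13, 30, 8, 12, 11], [9, 29, 12, 4, 23], [13, 20, 30, 23, 15], [27, 17, 13, 23, 15]],
   [[23, 18, 4, 13, 3], [7, 23, 4, 11, 21], [23, 24, 16, 22, 26], [9, 18, 30, 6, 4]],
   [[25, 2, 24, 18, 13], [5, 2, 27, 14, 10], [25, 19, 3, 29, 31], [28, 24, 9, 27, 6]],
   [[28, 1, 25, 23, 9], [2, 25, 7, 18, 20], [28, 24, 31, 10, 6], [22, 19, 3, 27, 25]],
   [[26, 21, 4, 7, 31], [21, 25, 4, 11, 19], [26, 11, 12, 24, 4], [31, 9, 16, 20, 28]],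
   [[12, 11, 19, 14, 4], [26, 9, 16, 17, 23], [12, 20, 18, 25, 9], [11, 28, 26, 27, 24]],
   [[22, 14, 18, 16, 15], [18, 12, 5, 11, 8], [22, 30, 17, 12, 28], [28, 18, 11, 3, 24]],
   [[31, 23, 4, 10, 24], [30, 11, 4, 3, 19], [31, 12, 24, 29, 23], [31, 9, 19, 17, 21]],
   [[15, 10, 1, 3, 18], [4, 12, 7, 14, 28], [15, 27, 13, 30, 12], [20, 5, 30, 14, 29]],
   [[20, 6, 8, 10, 15], [22, 12, 14, 4, 15], [20, 22, 13, 18, 17], [27, 3, 10, 21, 11]],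
   [[3, 21, 5, 14, 9], [29, 28, 25, 13, 6], [3, 6, 26, 23, 29], [22, 23, 21, 15, 28]],
   [[13, 8, 10, 14, 24], [15, 6, 12, 2, 18], [13, 11, 22, 31, 30], [24, 14, 13, 20, 7]],
   [[26, 4, 18, 1, 28], [8, 19, 2, 5, 23], [26, 27, 16, 14, 29], [3, 31, 13, 26, 4]],
   [[17, 18, 10, 8, 15], [15, 12, 27, 8, 14], [17, 30, 3, 31, 26], [10, 14, 18, 21, 11]],
   [[23, 19, 11, 22, 31], [9, 28, 3, 17, 23], [23, 22, 27, 11, 4], [3, 30, 16, 21, 12]],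
   [[9, 31, 23, 14, 5], [7, 25, 23, 6, 13], [9, 11, 8, 15, 17], [5, 3, 10, 4, 21]],
   [[2, 26, 8, 13, 25], [19, 1, 31, 4, 7], [2, 22, 6, 27, 14], [27, 1, 5, 20, 6]],
   [[20, 19, 18, 14, 30], [6, 28, 25, 13, 24], [20, 12, 3, 29, 2], [20, 16, 31, 29, 30]],
   [[12, 29, 24, 18, 11], [28, 23, 26, 27, 31], [12, 18, 26, 5, 17], [15, 29, 7, 6, 31]],
   [[9, 8, 5, 2, 25], [3, 8, 7, 2, 17], [9, 31, 23, 6, 10], [7, 22, 30, 6, 11]],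
   [[6, 4, 16, 1, 8], [8, 3, 2, 16, 4], [6, 24, 2, 16, 3], [20, 4, 5, 10, 8]],
   [[17, 29, 15, 20, 28], [18, 21, 27, 24, 19], [17, 25, 26, 29, 23], [29, 27, 10, 3, 28]],
   [[8, 16, 29, 19, 28], [20, 30, 19, 1, 2], [8, 29, 25, 9, 23], [9, 19, 6, 1, 12]],
   [[19, 26, 6, 16, 4], [29, 20, 16, 30, 8], [19, 30, 24, 10, 17], [13, 17, 23, 25, 29]],
   [[4, 3, 14, 31, 11], [21, 23, 1, 18, 25], [4, 7, 31, 8, 1], [16, 19, 1, 8, 14]],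
   [[31, 12, 2, 25, 28], [21, 4, 13, 15, 18], [31, 5, 18, 19, 10], [12, 23, 14, 7, 19]],
   [[31, 24, 14, 18, 2], [29, 16, 14, 26, 24], [31, 6, 7, 18, 29], [6, 17, 19, 28, 25]],
   [[17, 29, 15, 2, 7], [15, 8, 23, 20, 14], [17, 28, 15, 31, 4], [13, 7, 16, 30, 12]],
   [[11, 2, 19, 23, 5], [28, 2, 12, 31, 26], [11, 26, 4, 14, 7], [13, 25, 4, 21, 14]],
   [[31, 16, 20, 2, 7], [30, 8, 6, 19, 2], [31, 6, 10, 2, 22], [29, 8, 10, 12, 18]],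
   [[11, 5, 19, 20, 18], [20, 14, 22, 27, 30], [11, 7, 22, 16, 19], [14, 22, 26, 25, 8]],
   [[14, 6, 11, 24, 26], [31, 24, 26, 3, 11], [14, 20, 19, 21, 22], [10, 18, 30, 13, 28]],
   [[17, 5, 23, 21, 13], [11, 12, 9, 18, 10], [17, 15, 19, 7, 9], [26, 5, 23, 10, 27]],
   [[10, 21, 19, 13, 27], [15, 21, 19, 20, 30], [10, 3, 30, 24, 19], [25, 27, 23, 26, 18]],
   [[8, 6, 12, 26, 27], [24, 7, 5, 1, 14], [8, 13, 27, 9, 29], [9, 30, 10, 1, 18]],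
   [[29, 21, 11, 10, 14], [12, 11, 24, 3, 22], [29, 5, 14, 17, 8], [27, 13, 25, 16, 19]],
   [[23, 2, 7, 29, 12], [29, 2, 27, 11, 5], [23, 30, 6, 3, 13], [31, 23, 19, 28, 26]]]

theorem chk5 : all2 (chk 5 C5) (enum 5) cert5 = true := by decide +kernel

def C6 : List ℕ := [2, 4, 8, 16, 32, 3]
def D6 : List ℕ := [33, 1, 2, 4, 8, 16]

def cert6 : List (List (List ℕ)) :=
  [[],
   [],
   [[62, 23, 43, 55, 37, 36], [48, 7, 42, 57, 31, 10], [62, 27, 18, 1, 2, 33], [8, 16, 35, 14, 20, 40]],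
   [],
   [[63, 37, 19, 14, 59, 55], [38, 56, 17, 33, 26, 53], [63, 6, 2, 10, 33, 1], [32, 4, 6, 12, 31, 48]],
   [[18, 9, 6, 57, 8, 2], [18, 32, 36, 16, 33, 43], [18, 21, 17, 19, 44, 27], [9, 12, 6, 40, 13, 62]],
   [[18, 41, 12, 2, 22, 58], [35, 8, 17, 21, 9, 52], [18, 10, 44, 25, 48, 27], [11, 40, 23, 42, 41, 57]],
   [[54, 32, 49, 27, 31, 15], [54, 43, 24, 37, 48, 2], [54, 52, 36, 4, 19, 45], [21, 3, 8, 49, 6, 12]],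
   [[62, 58, 46, 21, 36, 50], [14, 54, 3, 34, 5, 19], [62, 14, 45, 25, 3, 33], [54, 38, 15, 43, 21, 22]],
   [],
   [[46, 58, 44, 12, 6, 33], [44, 5, 21, 29, 22, 12], [46, 63, 61, 62, 31, 57], [10, 6, 36, 49, 9, 18]],
   [[30, 44, 47, 51, 39, 40], [11, 13, 34, 20, 58, 52], [30, 8, 36, 4, 27, 17], [25, 50, 8, 2, 57, 12]],
   [[13, 45, 26, 63, 21, 46], [55, 21, 56, 14, 31, 3], [13, 63, 2, 30, 38, 42], [49, 4, 47, 31, 60, 59]],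
   [[28, 27, 30, 58, 62, 47], [30, 5, 24, 55, 46, 20], [28, 2, 11, 22, 50, 18], [13, 2, 40, 11, 34, 48]],
   [[17, 51, 18, 6, 47, 52], [42, 47, 39, 30, 43, 44], [17, 34, 40, 58, 12, 56], [37, 40, 62, 46, 36, 42]],
   [[24, 14, 20, 47, 25, 8], [17, 7, 37, 32, 33, 27], [24, 11, 22, 44, 45, 20], [24, 36, 31, 62, 63, 41]],
   [[7, 9, 27, 59, 2, 61], [41, 16, 56, 43, 22, 12], [7, 14, 60, 2, 31, 37], [53, 8, 60, 54, 39, 41]],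
   [[43, 25, 51, 55, 13, 49], [7, 36, 12, 27, 30, 57], [43, 34, 57, 49, 44, 31], [15, 56, 38, 12, 61, 58]],
   [[26, 19, 52, 2, 48, 62], [47, 8, 20, 44, 37, 53], [26, 2, 4, 12, 42, 23], [41, 2, 4, 12, 15, 30]],
   [[34, 45, 46, 30, 19, 21], [29, 27, 43, 46, 22, 26], [34, 1, 9, 47, 32, 51], [2, 17, 13, 6, 35, 16]],
   [[9, 58, 38, 26, 22, 17], [62, 41, 39, 63, 30, 10], [9, 4, 18, 57, 16, 44], [58, 20, 2, 59, 16, 25]],
   [[58, 11, 43, 7, 23, 41], [29, 36, 49, 59, 24, 6], [58, 37, 48, 52, 7, 39], [62, 34, 12, 39, 52, 48]],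
   [[37, 45, 11, 10, 28, 55], [12, 11, 57, 3, 42, 52], [37, 30, 23, 47, 33, 22], [36, 43, 17, 34, 26, 52]],
   [[10, 54, 20, 31, 24, 57], [13, 59, 46, 58, 42, 61], [10, 31, 12, 57, 23, 15], [55, 19, 22, 18, 34, 15]],
   [[9, 26, 1, 41, 52, 43], [4, 40, 54, 5, 47, 9], [9, 58, 53, 52, 3, 44], [12, 28, 27, 13, 37, 54]],
   [[2, 10, 46, 51, 3, 16], [17, 1, 62, 3, 32, 56], [2, 23, 51, 43, 56, 3], [33, 1, 26, 52, 56, 28]],
   [[24, 9, 47, 12, 34, 30], [28, 55, 22, 30, 31, 39], [24, 35, 43, 10, 58, 20], [19, 14, 39, 6, 7, 31]],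
   [],
   [[58, 15, 40, 3, 1, 34], [16, 24, 54, 60, 29, 56], [58, 51, 6, 43, 50, 39], [18, 61, 57, 17, 27, 54]],
   [[2, 27, 59, 53, 49, 3], [33, 1, 24, 21, 55, 6], [2, 54, 62, 45, 57, 3], [33, 1, 52, 6, 44, 27]],
   [[55, 57, 23, 31, 58, 62], [45, 63, 48, 12, 38, 5], [55, 38, 42, 57, 20, 13], [38, 15, 53, 51, 37, 56]],
   [[42, 63, 37, 56, 13, 11], [58, 21, 37, 15, 28, 27], [42, 47, 50, 31, 51, 63], [20, 14, 23, 39, 34, 40]],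
   [[27, 43, 44, 15, 49, 13], [19, 40, 61, 14, 52, 55], [27, 10, 42, 46, 24, 55], [56, 41, 12, 43, 59, 6]],
   [[35, 26, 39, 1, 20, 2], [8, 32, 5, 55, 21, 41], [35, 45, 38, 49, 54, 19], [41, 29, 44, 50, 20, 53]],
   [[28, 32, 50, 7, 29, 12], [17, 39, 62, 30, 33, 2], [28, 38, 30, 46, 9, 18], [26, 5, 46, 10, 37, 41]],
   [[47, 49, 58, 9, 27, 48], [34, 14, 49, 42, 22, 54], [47, 29, 49, 1, 16, 25], [8, 15, 34, 56, 16, 28]],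
   [[12, 63, 14, 23, 16, 26], [41, 5, 52, 53, 16, 63], [12, 39, 13, 26, 5, 10], [5, 52, 21, 20, 40, 38]],
   [[11, 42, 16, 36, 12, 22], [53, 26, 62, 46, 4, 54], [11, 12, 56, 3, 54, 47], [30, 22, 11, 9, 39, 42]],
   [[46, 42, 58, 35, 48, 1], [32, 62, 3, 42, 6, 22], [46, 30, 61, 24, 1, 57], [16, 46, 36, 51, 59, 56]],
   [[50, 53, 6, 34, 40, 44], [7, 52, 48, 44, 9, 60], [50, 33, 7, 4, 55, 43], [25, 21, 8, 55, 15, 27]],
   [[58, 52, 3, 42, 7, 50], [50, 54, 20, 33, 9, 31], [58, 52, 27, 40, 10, 39], [43, 54, 19, 38, 63, 46]],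
   [[24, 4, 41, 15, 59, 26], [31, 33, 2, 52, 53, 47], [24, 8, 32, 42, 35, 20], [26, 14, 35, 2, 3, 4]],
   [[55, 44, 59, 24, 37, 1], [32, 43, 55, 50, 58, 7], [55, 6, 32, 41, 31, 13], [25, 46, 44, 21, 30, 4]],
   [[60, 27, 4, 28, 37, 22], [29, 19, 4, 59, 55, 9], [60, 29, 13, 20, 24, 34], [28, 63, 14, 22, 6, 31]],
   [[47, 51, 55, 21, 10, 16], [46, 53, 6, 37, 32, 57], [47, 46, 26, 6, 23, 25], [3, 39, 47, 56, 27, 50]],
   [[19, 36, 26, 33, 42, 32], [40, 29, 34, 45, 52, 32], [19, 38, 52, 46, 31, 59], [7, 50, 27, 10, 52, 43]],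
   [[24, 26, 58, 11, 35, 55], [21, 3, 47, 30, 31, 6], [24, 53, 9, 38, 10, 20], [27, 15, 62, 31, 30, 57]],
   [[1, 10, 14, 16, 61, 28], [1, 44, 6, 46, 8, 49], [1, 59, 41, 11, 47, 32], [1, 44, 56, 37, 42, 32]],
   [[49, 16, 24, 58, 37, 47], [57, 54, 19, 6, 2, 58], [49, 41, 43, 39, 29, 8], [63, 6, 44, 32, 35, 29]],
   [[58, 11, 35, 54, 31, 53], [30, 54, 35, 42, 49, 44], [58, 32, 55, 27, 40, 39], [11, 53, 28, 18, 36, 2]],
   [[6, 1, 63, 14, 37, 30], [2, 53, 52, 9, 40, 38], [6, 19, 12, 61, 8, 5], [52, 21, 20, 16, 35, 27]],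
   [[21, 40, 60, 26, 45, 32], [7, 57, 21, 34, 19, 32], [21, 22, 30, 26, 6, 62], [31, 28, 12, 6, 18, 36]],
   [[9, 1, 28, 7, 44, 40], [2, 58, 48, 3, 55, 35], [9, 8, 22, 40, 20, 44], [3, 20, 40, 2, 56, 10]],
   [[4, 5, 47, 40, 37, 48], [3, 14, 1, 26, 50, 18], [4, 50, 26, 17, 53, 6], [50, 33, 1, 31, 58, 25]],
   [[47, 43, 21, 45, 9, 18], [46, 9, 3, 62, 41, 27], [47, 29, 2, 58, 49, 25], [23, 4, 34, 11, 60, 59]],
   [[15, 1, 11, 28, 33, 31], [2, 42, 5, 44, 33, 18], [15, 42, 10, 61, 26, 41], [57, 27, 60, 31, 20, 6]],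
   [[22, 20, 8, 29, 40, 17], [14, 3, 44, 4, 46, 20], [22, 52, 27, 26, 4, 29], [12, 52, 16, 25, 37, 55]],
   [[14, 1, 17, 63, 34, 25], [2, 29, 56, 36, 6, 13], [14, 50, 42, 23, 29, 9], [15, 55, 25, 47, 41, 28]],
   [[43, 19, 57, 12, 46, 54], [7, 43, 22, 30, 46, 51], [43, 44, 8, 45, 2, 31], [10, 16, 25, 4, 39, 31]],
   [[41, 45, 39, 49, 12, 27], [60, 21, 3, 19, 26, 46], [41, 13, 33, 58, 6, 28], [60, 43, 59, 5, 30, 56]],
   [[24, 50, 29, 30, 2, 18], [28, 16, 25, 49, 48, 34], [24, 44, 4, 59, 42, 20], [60, 22, 4, 37, 36, 35]],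
   [[5, 26, 10, 6, 46, 41], [56, 49, 57, 53, 6, 45], [5, 6, 40, 39, 27, 38], [40, 43, 41, 38, 53, 34]],
   [[50, 5, 23, 21, 41, 10], [59, 12, 57, 44, 10, 7], [50, 27, 24, 14, 34, 43], [37, 35, 62, 21, 17, 51]],
   [[39, 60, 55, 32, 18, 4], [60, 21, 32, 47, 5, 8], [39, 26, 17, 27, 24, 21], [10, 18, 36, 30, 14, 61]],
   [[28, 30, 31, 11, 43, 36], [6, 3, 56, 13, 52, 24], [28, 56, 19, 39, 6, 18], [36, 47, 63, 49, 15, 60]],
   [[42, 20, 60, 28, 38, 29], [40, 7, 27, 10, 25, 12], [42, 4, 26, 6, 55, 63], [29, 10, 2, 48, 62, 59]],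
   [[61, 19, 20, 56, 33, 39], [54, 15, 63, 21, 59, 38], [61, 45, 6, 50, 7, 2], [20, 32, 36, 25, 3, 43]],
   [[56, 52, 41, 9, 10, 53], [34, 58, 41, 42, 39, 12], [56, 25, 13, 16, 3, 36], [45, 61, 14, 39, 8, 46]],
   [[49, 31, 41, 17, 53, 5], [49, 39, 17, 60, 57, 9], [49, 23, 24, 34, 9, 8], [48, 29, 11, 32, 36, 21]],
   [[15, 47, 8, 43, 38, 25], [22, 25, 10, 4, 50, 3], [15, 45, 9, 40, 18, 41], [40, 39, 34, 44, 55, 36]],
   [[44, 30, 37, 45, 63, 39], [9, 36, 22, 12, 60, 27], [44, 25, 9, 24, 32, 58], [10, 56, 31, 14, 6, 16]],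
   [[36, 33, 59, 40, 61, 14], [62, 41, 61, 52, 27, 60], [36, 43, 51, 48, 22, 54], [21, 25, 49, 62, 56, 48]],
   [[6, 40, 35, 27, 49, 12], [39, 26, 27, 59, 14, 57], [6, 33, 31, 44, 49, 5], [61, 28, 29, 42, 18, 63]],
   [[44, 19, 30, 28, 21, 3], [44, 12, 30, 52, 34, 43], [44, 17, 62, 50, 51, 58], [24, 31, 36, 40, 26, 13]],
   [[41, 56, 2, 14, 57, 22], [18, 4, 53, 57, 17, 42], [41, 43, 54, 58, 47, 28], [38, 3, 18, 30, 44, 57]],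
   [[3, 45, 62, 50, 26, 24], [49, 48, 43, 39, 7, 63], [3, 63, 49, 22, 34, 35], [48, 49, 44, 27, 21, 33]],
   [[38, 57, 17, 59, 61, 33], [57, 10, 18, 31, 61, 25], [38, 4, 16, 58, 29, 53], [25, 60, 2, 15, 4, 63]],
   [[12, 6, 53, 40, 21, 60], [56, 31, 29, 28, 53, 20], [12, 54, 38, 50, 39, 10], [20, 43, 10, 11, 6, 37]],
   [[60, 4, 10, 41, 12, 59], [53, 22, 2, 18, 62, 47], [60, 57, 16, 42, 40, 34], [22, 24, 21, 40, 4, 56]],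
   [[42, 43, 57, 23, 53, 21], [3, 40, 13, 25, 46, 48], [42, 53, 16, 9, 46, 63], [52, 30, 17, 60, 4, 35]],
   [[24, 51, 37, 52, 39, 4], [62, 20, 32, 51, 50, 26], [24, 38, 58, 36, 59, 20], [20, 10, 7, 38, 39, 15]],
   [],
   [[38, 9, 28, 37, 24, 5], [52, 61, 20, 54, 38, 40], [38, 18, 36, 11, 22, 3], [37, 5, 18, 40, 7, 22]],
   [[11, 20, 50, 62, 52, 14], [25, 44, 56, 52, 58, 18], [11, 61, 38, 30, 8, 1], [32, 49, 46, 16, 7, 27]],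
   [[2, 26, 49, 58, 30, 42], [38, 1, 18, 43, 40, 10], [2, 56, 43, 21, 42, 15], [20, 1, 15, 58, 19, 43]],
   [[1, 49, 4, 16, 51, 29], [1, 18, 4, 45, 8, 11], [1, 34, 23, 62, 60, 56], [1, 24, 48, 23, 45, 26]],
   [[39, 44, 43, 56, 46, 30], [41, 18, 61, 56, 55, 7], [39, 61, 20, 40, 5, 49], [14, 37, 30, 60, 26, 52]],
   [[18, 52, 32, 31, 14, 12], [41, 48, 55, 23, 49, 4], [18, 59, 57, 34, 45, 8], [45, 6, 19, 32, 7, 14]],
   [[47, 32, 29, 62, 56, 11], [53, 59, 35, 46, 60, 2], [47, 29, 2, 58, 4, 63], [56, 4, 16, 11, 33, 38]],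
   [[6, 36, 43, 2, 28, 10], [47, 8, 9, 40, 49, 11], [6, 48, 35, 57, 5, 20], [39, 54, 55, 45, 23, 21]],
   [[39, 14, 38, 27, 28, 43], [5, 35, 62, 31, 49, 25], [39, 48, 35, 56, 26, 32], [28, 56, 5, 10, 34, 32]],
   [[34, 19, 50, 31, 27, 25], [55, 48, 24, 18, 5, 49], [34, 5, 57, 49, 61, 10], [22, 44, 20, 12, 51, 45]],
   [[17, 46, 32, 58, 2, 47], [34, 16, 41, 63, 35, 4], [17, 21, 50, 10, 49, 6], [55, 35, 3, 43, 54, 17]],
   [[38, 35, 9, 61, 50, 40], [57, 38, 58, 61, 43, 29], [38, 6, 56, 63, 52, 22], [14, 51, 49, 37, 34, 3]],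
   [[16, 22, 17, 3, 50, 56], [5, 13, 14, 61, 1, 28], [16, 41, 3, 6, 12, 27], [57, 61, 53, 37, 1, 30]],
   [[43, 19, 21, 53, 49, 18], [34, 30, 24, 49, 62, 12], [43, 53, 63, 2, 50, 3], [40, 8, 50, 14, 55, 47]],
   [[29, 35, 48, 23, 12, 28], [33, 23, 14, 30, 48, 52], [29, 56, 49, 4, 54, 45], [37, 57, 8, 35, 15, 46]],
   [[39, 24, 53, 8, 25, 35], [18, 15, 33, 8, 10, 61], [39, 56, 29, 30, 11, 43], [11, 7, 61, 28, 46, 48]],
   [[6, 56, 5, 48, 47, 15], [43, 46, 47, 10, 56, 48], [6, 7, 17, 51, 21, 26], [3, 21, 20, 50, 7, 25]],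
   [[4, 59, 24, 57, 46, 27], [46, 10, 1, 57, 61, 34], [4, 1, 42, 33, 8, 56], [2, 30, 1, 16, 58, 10]],
   [[17, 31, 23, 40, 24, 21], [23, 36, 33, 6, 22, 14], [17, 30, 60, 56, 1, 63], [16, 52, 12, 43, 17, 50]],
   [[18, 48, 36, 13, 16, 56], [60, 17, 22, 34, 16, 18], [18, 13, 11, 23, 62, 10], [36, 43, 45, 11, 42, 55]],
   [[1, 48, 11, 26, 14, 34], [1, 47, 21, 42, 13, 15], [1, 32, 16, 37, 58, 25], [1, 51, 11, 37, 4, 2]],
   [[1, 7, 21, 5, 48, 10], [1, 10, 9, 42, 12, 28], [1, 49, 56, 60, 45, 35], [1, 59, 12, 7, 25, 26]],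
   [[15, 63, 57, 17, 36, 4], [59, 38, 32, 60, 51, 48], [15, 27, 46, 54, 6, 49], [56, 54, 38, 41, 37, 61]],
   [[48, 1, 45, 18, 3, 53], [2, 18, 35, 62, 26, 27], [48, 50, 9, 3, 62, 17], [11, 3, 29, 15, 43, 42]],
   [[31, 24, 22, 36, 38, 61], [42, 24, 49, 47, 45, 57], [31, 34, 7, 59, 5, 19], [15, 20, 31, 62, 59, 22]],
   [[51, 43, 44, 25, 48, 60], [11, 26, 23, 39, 36, 52], [51, 9, 31, 6, 5, 7], [40, 48, 56, 42, 14, 23]],
   [[27, 20, 60, 9, 5, 55], [55, 44, 39, 63, 37, 57], [27, 34, 7, 14, 19, 61], [29, 58, 35, 17, 55, 56]],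
   [[33, 27, 45, 9, 61, 4], [45, 30, 32, 37, 20, 44], [33, 2, 61, 57, 50, 60], [36, 2, 12, 62, 55, 37]],
   [[47, 2, 49, 58, 33, 10], [44, 2, 49, 34, 20, 60], [47, 62, 57, 49, 10, 24], [47, 28, 53, 12, 44, 11]],
   [[13, 52, 50, 51, 49, 37], [12, 24, 30, 19, 46, 50], [13, 35, 10, 22, 24, 48], [54, 47, 28, 43, 59, 27]],
   [[34, 62, 22, 16, 59, 35], [33, 63, 51, 56, 8, 62], [34, 48, 35, 55, 61, 44], [5, 54, 57, 46, 53, 55]],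
   [[33, 3, 42, 21, 28, 27], [31, 29, 50, 7, 37, 30], [33, 12, 55, 36, 41, 48], [26, 45, 19, 17, 59, 27]],
   [[5, 25, 62, 4, 57, 11], [9, 21, 8, 60, 55, 18], [5, 29, 7, 36, 61, 11], [27, 5, 26, 62, 61, 18]],
   [[47, 9, 55, 50, 21, 14], [27, 46, 23, 25, 28, 58], [47, 28, 63, 29, 7, 60], [10, 46, 52, 51, 5, 34]],
   [[22, 2, 1, 16, 12, 44], [4, 2, 11, 27, 8, 48], [22, 48, 9, 24, 16, 28], [28, 57, 40, 24, 16, 18]],
   [[34, 23, 5, 11, 38, 42], [21, 60, 17, 33, 58, 61], [34, 9, 62, 29, 22, 25], [13, 26, 40, 15, 34, 27]],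
   [[27, 57, 22, 5, 61, 20], [26, 36, 18, 13, 50, 39], [27, 38, 4, 42, 37, 10], [60, 46, 4, 14, 29, 40]],
   [[14, 44, 57, 23, 41, 63], [56, 14, 42, 37, 20, 13], [14, 8, 40, 52, 51, 31], [27, 55, 52, 2, 58, 6]],
   [[54, 18, 21, 47, 17, 28], [61, 47, 20, 25, 45, 23], [54, 58, 24, 19, 9, 36], [41, 28, 58, 57, 61, 26]],
   [[31, 50, 42, 57, 15, 52], [37, 56, 26, 23, 17, 43], [31, 53, 21, 57, 1, 40], [16, 35, 44, 38, 56, 6]],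
   [[2, 7, 16, 51, 24, 25], [48, 1, 51, 20, 4, 61], [2, 26, 38, 47, 27, 33], [18, 1, 55, 30, 29, 50]],
   [[48, 51, 46, 28, 26, 61], [14, 13, 21, 58, 39, 38], [48, 18, 35, 4, 10, 16], [7, 34, 8, 50, 32, 33]],
   [[26, 57, 56, 61, 36, 16], [6, 31, 10, 62, 32, 26], [26, 21, 43, 9, 22, 42], [36, 54, 61, 44, 27, 58]],
   [[13, 7, 36, 40, 62, 24], [13, 52, 59, 55, 23, 63], [13, 50, 19, 2, 49, 8], [26, 8, 59, 32, 22, 28]],
   [[55, 61, 35, 25, 29, 63], [52, 34, 24, 33, 29, 18], [55, 20, 47, 39, 57, 50], [42, 22, 11, 12, 9, 63]],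
   [[13, 27, 24, 15, 40, 33], [15, 9, 49, 63, 59, 47], [13, 60, 36, 10, 62, 6], [41, 18, 50, 26, 28, 54]],
   [[52, 56, 5, 36, 3, 14], [51, 35, 55, 52, 9, 63], [52, 57, 28, 12, 48, 50], [11, 48, 17, 25, 12, 28]],
   [[37, 28, 3, 52, 30, 35], [22, 18, 51, 46, 31, 36], [37, 32, 52, 19, 40, 24], [55, 13, 52, 18, 50, 2]],
   [[43, 18, 6, 34, 28, 12], [31, 50, 54, 22, 48, 58], [43, 2, 47, 21, 11, 22], [42, 2, 5, 56, 39, 17]],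
   [[57, 2, 8, 45, 23, 17], [27, 2, 50, 4, 59, 37], [57, 47, 7, 37, 18, 5], [51, 36, 19, 46, 52, 40]],
   [[2, 56, 35, 63, 29, 51], [28, 1, 23, 63, 36, 25], [2, 14, 34, 39, 35, 31], [20, 1, 24, 27, 54, 5]],
   [[54, 29, 37, 12, 46, 38], [43, 15, 56, 48, 33, 23], [54, 19, 45, 14, 30, 2], [58, 32, 47, 7, 24, 22]],
   [[56, 25, 46, 5, 17, 3], [61, 29, 53, 18, 45, 62], [56, 2, 38, 61, 46, 9], [52, 2, 61, 20, 46, 59]],
   [[62, 30, 45, 33, 23, 24], [11, 55, 21, 25, 57, 3], [62, 12, 24, 3, 53, 9], [57, 49, 27, 25, 29, 47]],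
   [[51, 36, 27, 44, 57, 47], [51, 27, 13, 10, 38, 15], [51, 50, 14, 29, 58, 31], [3, 40, 62, 18, 39, 13]],
   [[30, 3, 43, 28, 57, 11], [11, 9, 55, 34, 29, 36], [30, 48, 7, 9, 21, 42], [62, 25, 35, 54, 13, 15]],
   [[45, 20, 63, 19, 36, 22], [13, 34, 37, 28, 39, 53], [45, 23, 32, 52, 18, 19], [48, 62, 34, 23, 46, 4]],
   [[11, 7, 9, 57, 17, 23], [50, 5, 53, 54, 34, 46], [11, 33, 54, 48, 62, 46], [58, 47, 35, 20, 48, 56]],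
   [[45, 20, 19, 11, 40, 41], [48, 23, 33, 47, 35, 63], [45, 39, 52, 8, 12, 5], [56, 11, 24, 8, 53, 41]],
   [[63, 48, 26, 40, 14, 16], [19, 14, 52, 42, 32, 34], [63, 27, 56, 11, 4, 50], [44, 57, 16, 29, 10, 19]],
   [[11, 10, 31, 15, 36, 9], [3, 33, 9, 35, 12, 25], [11, 13, 48, 62, 44, 37], [63, 49, 50, 15, 41, 45]],
   [[63, 42, 49, 5, 10, 41], [29, 63, 21, 47, 11, 18], [63, 11, 12, 25, 40, 6], [38, 29, 61, 57, 23, 41]],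
   [[37, 58, 23, 6, 29, 18], [63, 19, 27, 7, 51, 37], [37, 9, 18, 1, 48, 60], [8, 39, 58, 10, 35, 51]],
   [[40, 57, 47, 51, 23, 4], [22, 51, 32, 57, 21, 56], [40, 19, 50, 8, 44, 10], [15, 40, 17, 8, 37, 9]],
   [[9, 44, 38, 31, 34, 2], [39, 32, 20, 38, 61, 48], [9, 20, 1, 32, 47, 63], [4, 43, 50, 5, 48, 8]],
   [[5, 19, 58, 2, 23, 27], [19, 8, 18, 34, 25, 55], [5, 54, 3, 47, 52, 59], [22, 18, 23, 35, 63, 56]],
   [[51, 50, 48, 10, 14, 42], [3, 6, 24, 14, 44, 40], [51, 44, 41, 39, 55, 19], [23, 47, 17, 50, 24, 33]],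
   [[61, 42, 37, 17, 28, 29], [48, 30, 21, 61, 56, 33], [61, 10, 48, 4, 45, 49], [36, 43, 8, 41, 17, 21]],
   [[62, 63, 26, 56, 9, 31], [3, 46, 39, 19, 57, 34], [62, 26, 38, 41, 61, 44], [22, 7, 62, 35, 38, 61]],
   [[30, 46, 53, 6, 2, 39], [31, 16, 24, 61, 52, 55], [30, 36, 51, 6, 63, 42], [45, 54, 62, 42, 35, 60]],
   [[39, 62, 40, 57, 63, 3], [18, 50, 42, 15, 30, 11], [39, 9, 35, 57, 15, 1], [32, 23, 5, 34, 57, 51]],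
   [[1, 9, 55, 45, 33, 35], [1, 48, 27, 3, 63, 17], [1, 2, 50, 17, 42, 30], [1, 2, 54, 29, 9, 15]],
   [[29, 3, 40, 44, 46, 17], [26, 24, 12, 45, 58, 41], [29, 51, 13, 50, 48, 41], [10, 24, 49, 63, 5, 21]],
   [[18, 22, 16, 47, 54, 53], [53, 5, 3, 41, 4, 18], [18, 35, 36, 12, 56, 17], [60, 29, 39, 47, 28, 35]],
   [[32, 6, 55, 54, 42, 4], [12, 34, 32, 51, 11, 1], [32, 14, 28, 30, 26, 25], [60, 12, 24, 22, 10, 1]],
   [[12, 30, 4, 3, 36, 13], [33, 41, 4, 5, 42, 20], [12, 59, 25, 53, 42, 1], [32, 11, 23, 22, 50, 13]],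
   [[25, 38, 22, 26, 55, 6], [54, 63, 31, 19, 36, 34], [25, 13, 55, 49, 9, 1], [32, 30, 18, 48, 17, 57]],
   [[50, 38, 52, 30, 29, 19], [38, 62, 59, 53, 56, 7], [50, 5, 15, 29, 22, 59], [30, 57, 28, 63, 53, 13]],
   [[11, 18, 29, 12, 49, 28], [36, 42, 7, 15, 40, 28], [11, 4, 40, 27, 63, 45], [38, 57, 2, 30, 9, 26]],
   [[13, 35, 59, 4, 19, 58], [36, 31, 8, 45, 43, 57], [13, 10, 53, 23, 24, 1], [32, 25, 58, 27, 11, 21]],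
   [[54, 14, 1, 49, 23, 45], [4, 51, 62, 15, 25, 21], [54, 24, 8, 40, 36, 11], [51, 23, 28, 4, 6, 12]],
   [[10, 30, 48, 19, 43, 4], [54, 29, 32, 28, 35, 39], [10, 46, 11, 3, 6, 24], [5, 13, 29, 12, 44, 30]],
   [[62, 1, 50, 33, 21, 26], [2, 55, 43, 46, 57, 10], [62, 51, 60, 46, 32, 25], [30, 5, 42, 55, 9, 16]],
   [[14, 45, 61, 20, 6, 48], [59, 30, 14, 17, 6, 38], [14, 63, 30, 44, 25, 1], [32, 47, 27, 53, 5, 38]],
   [[47, 31, 33, 19, 32, 20], [20, 15, 51, 57, 19, 16], [47, 46, 33, 34, 52, 6], [3, 15, 47, 37, 56, 7]],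
   [[49, 40, 15, 8, 2, 3], [48, 16, 44, 8, 59, 10], [49, 6, 30, 61, 42, 58], [42, 61, 63, 54, 48, 27]],
   [[38, 43, 18, 12, 5, 41], [11, 34, 27, 19, 38, 56], [38, 34, 50, 23, 59, 8], [52, 57, 3, 32, 6, 59]],
   [[37, 49, 2, 23, 12, 47], [15, 4, 53, 37, 54, 59], [37, 54, 56, 20, 55, 46], [18, 44, 53, 31, 61, 38]],
   [[59, 48, 55, 52, 44, 62], [43, 39, 10, 15, 23, 21], [59, 33, 13, 15, 20, 37], [27, 12, 34, 61, 50, 25]],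
   [[40, 24, 29, 2, 11, 23], [52, 8, 50, 44, 46, 45], [40, 22, 25, 45, 3, 41], [33, 49, 40, 62, 27, 63]],
   [[26, 25, 9, 43, 14, 18], [37, 38, 23, 33, 6, 42], [26, 22, 35, 21, 38, 46], [39, 45, 51, 48, 28, 14]],
   [[14, 10, 11, 61, 21, 47], [6, 61, 3, 63, 21, 39], [14, 62, 34, 27, 51, 49], [35, 48, 29, 44, 55, 52]],
   [[53, 30, 31, 14, 18, 22], [6, 26, 48, 34, 10, 61], [53, 39, 28, 2, 4, 9], [63, 8, 16, 31, 11, 37]],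
   [[37, 47, 58, 46, 35, 22], [10, 44, 61, 47, 49, 54], [37, 34, 9, 29, 46, 1], [32, 21, 54, 36, 58, 23]],
   [[9, 46, 29, 35, 52, 40], [52, 41, 11, 53, 14, 21], [9, 12, 32, 2, 20, 28], [49, 8, 50, 48, 34, 4]],
   [[12, 13, 20, 51, 36, 8], [3, 31, 33, 32, 37, 49], [12, 62, 21, 63, 3, 19], [10, 26, 62, 63, 48, 41]],
   [[4, 8, 41, 5, 55, 21], [9, 63, 1, 2, 40, 15], [4, 41, 63, 23, 3, 35], [14, 30, 1, 60, 25, 48]],
   [[22, 47, 4, 32, 34, 44], [58, 24, 4, 44, 29, 8], [22, 14, 45, 57, 23, 48], [17, 13, 54, 57, 58, 26]],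
   [[7, 60, 18, 14, 62, 33], [46, 18, 61, 39, 22, 14], [7, 41, 54, 8, 34, 60], [54, 44, 27, 8, 15, 60]],
   [[22, 12, 58, 48, 52, 41], [61, 22, 24, 26, 15, 7], [22, 60, 49, 7, 25, 3], [55, 23, 40, 25, 62, 13]],
   [[52, 23, 30, 33, 17, 55], [42, 11, 25, 44, 58, 34], [52, 51, 32, 49, 61, 53], [33, 10, 40, 48, 45, 4]],
   [[52, 46, 51, 22, 48, 5], [49, 37, 17, 26, 60, 44], [52, 54, 40, 39, 36, 7], [27, 3, 56, 44, 17, 40]],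
   [[36, 48, 25, 19, 14, 44], [58, 45, 28, 33, 31, 29], [36, 40, 55, 2, 8, 33], [50, 8, 19, 16, 63, 18]],
   [[46, 4, 54, 61, 17, 8], [53, 25, 2, 32, 37, 58], [46, 56, 35, 30, 59, 10], [57, 43, 55, 11, 31, 22]],
   [[10, 52, 55, 20, 37, 7], [60, 58, 38, 59, 46, 10], [10, 42, 9, 49, 1, 63], [16, 21, 41, 20, 27, 3]],
   [[15, 46, 28, 30, 62, 53], [27, 12, 49, 39, 18, 24], [15, 63, 44, 34, 60, 40], [13, 31, 36, 55, 20, 23]],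
   [[56, 18, 21, 16, 20, 33], [20, 10, 24, 61, 8, 52], [56, 32, 30, 9, 21, 7], [39, 28, 27, 47, 44, 2]],
   [[15, 34, 54, 44, 4, 42], [11, 56, 16, 34, 22, 58], [15, 61, 14, 6, 24, 19], [5, 57, 49, 12, 28, 38]],
   [[12, 51, 55, 22, 13, 20], [17, 40, 6, 7, 38, 29], [12, 62, 4, 18, 61, 5], [36, 54, 4, 5, 62, 11]],
   [[4, 41, 7, 19, 8, 48], [63, 58, 1, 16, 13, 45], [4, 48, 40, 16, 18, 59], [52, 24, 1, 14, 8, 10]],
   [[25, 53, 41, 61, 4, 42], [23, 51, 16, 10, 28, 25], [25, 58, 27, 62, 10, 5], [42, 5, 10, 21, 62, 44]],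
   [[32, 46, 53, 12, 11, 10], [48, 11, 35, 43, 22, 1], [32, 45, 21, 37, 38, 26], [63, 39, 54, 10, 13, 1]],
   [[55, 39, 51, 25, 34, 57], [23, 56, 5, 28, 3, 40], [55, 49, 21, 35, 10, 42], [13, 53, 54, 37, 63, 48]],
   [[38, 10, 48, 13, 26, 14], [29, 53, 34, 55, 18, 22], [38, 53, 63, 23, 21, 43], [52, 24, 11, 30, 47, 18]],
   [[7, 48, 52, 44, 33, 1], [32, 39, 6, 62, 50, 48], [7, 62, 11, 51, 47, 20], [15, 51, 61, 56, 29, 41]],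
   [[1, 21, 7, 31, 58, 62], [1, 53, 48, 63, 51, 41], [1, 50, 14, 29, 6, 55], [1, 51, 35, 20, 62, 15]],
   [[12, 50, 35, 40, 42, 43], [48, 24, 37, 36, 54, 44], [12, 62, 39, 4, 3, 6], [56, 40, 8, 9, 55, 28]],
   [[47, 14, 45, 17, 34, 55], [22, 5, 56, 63, 30, 21], [47, 16, 33, 2, 43, 9], [60, 8, 17, 28, 2, 56]],
   [[9, 40, 14, 15, 12, 18], [12, 20, 29, 13, 52, 15], [9, 18, 32, 34, 39, 45], [61, 12, 37, 60, 14, 4]],
   [[46, 31, 6, 15, 36, 41], [37, 56, 60, 41, 10, 44], [46, 6, 55, 12, 48, 17], [22, 47, 45, 37, 54, 38]],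
   [[11, 6, 55, 21, 46, 62], [31, 37, 39, 59, 48, 41], [11, 38, 28, 9, 60, 1], [32, 9, 31, 40, 51, 20]],
   [[27, 16, 38, 30, 31, 63], [24, 37, 17, 62, 2, 48], [27, 56, 55, 40, 12, 58], [52, 34, 13, 29, 10, 21]],
   [[41, 10, 12, 25, 63, 62], [48, 45, 43, 47, 23, 30], [41, 33, 34, 55, 13, 15], [54, 48, 37, 3, 31, 52]],
   [[63, 18, 13, 21, 35, 23], [63, 40, 29, 38, 42, 7], [63, 38, 33, 47, 44, 45], [48, 40, 30, 58, 9, 52]],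
   [[59, 40, 16, 50, 42, 45], [21, 18, 55, 28, 4, 30], [59, 46, 7, 6, 63, 31], [12, 25, 17, 58, 30, 48]],
   [[43, 24, 42, 59, 7, 41], [5, 33, 52, 11, 9, 46], [43, 57, 3, 52, 24, 32], [50, 54, 29, 37, 53, 32]],
   [[53, 22, 17, 11, 25, 46], [45, 49, 26, 20, 41, 31], [53, 52, 61, 21, 23, 46], [3, 24, 52, 5, 63, 9]],
   [[2, 43, 50, 56, 13, 16], [43, 1, 54, 13, 32, 37], [2, 31, 57, 23, 41, 20], [41, 1, 52, 10, 20, 51]],
   [[20, 63, 46, 11, 33, 24], [27, 46, 28, 61, 29, 11], [20, 18, 53, 13, 4, 34], [54, 19, 16, 46, 17, 51]],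
   [[42, 13, 30, 38, 26, 32], [11, 60, 20, 29, 49, 32], [42, 62, 5, 39, 30, 58], [38, 30, 34, 13, 33, 18]],
   [[40, 42, 35, 41, 48, 6], [9, 3, 35, 15, 30, 14], [40, 47, 61, 12, 44, 63], [54, 36, 17, 25, 34, 24]],
   [[4, 49, 63, 3, 47, 35], [62, 54, 1, 49, 20, 40], [4, 41, 43, 26, 5, 13], [17, 6, 1, 48, 62, 35]],
   [[56, 51, 27, 50, 47, 38], [10, 51, 47, 58, 7, 60], [56, 27, 10, 63, 34, 15], [19, 45, 55, 41, 21, 61]],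
   [[47, 4, 62, 59, 29, 2], [14, 32, 2, 23, 11, 58], [47, 2, 62, 35, 38, 49], [47, 2, 55, 62, 42, 37]],
   [[37, 47, 17, 1, 12, 32], [8, 58, 41, 57, 12, 32], [37, 4, 8, 13, 51, 47], [14, 37, 2, 4, 54, 13]],
   [[11, 53, 28, 42, 60, 44], [29, 19, 59, 15, 48, 20], [11, 16, 6, 59, 28, 40], [23, 61, 57, 43, 2, 11]],
   [[34, 51, 10, 54, 50, 36], [18, 57, 24, 61, 17, 56], [34, 48, 29, 26, 58, 28], [36, 25, 49, 11, 26, 24]],
   [[2, 32, 11, 56, 48, 12], [29, 1, 56, 24, 18, 2], [2, 14, 53, 19, 37, 24], [29, 1, 55, 52, 20, 58]],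
   [[50, 53, 17, 51, 12, 33], [9, 37, 47, 63, 13, 41], [50, 22, 19, 47, 18, 34], [20, 49, 18, 46, 33, 17]],
   [[52, 5, 43, 42, 32, 9], [12, 52, 14, 44, 31, 16], [52, 42, 26, 5, 41, 39], [15, 29, 7, 42, 51, 53]],
   [[13, 21, 35, 62, 53, 33], [50, 36, 61, 14, 13, 18], [13, 6, 25, 44, 10, 47], [19, 59, 57, 43, 60, 26]],
   [[39, 44, 21, 28, 17, 34], [53, 15, 20, 57, 37, 47], [39, 51, 24, 4, 53, 19], [49, 26, 8, 15, 11, 34]],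
   [[25, 10, 8, 39, 22, 50], [62, 6, 45, 4, 59, 29], [25, 34, 31, 28, 42, 27], [45, 33, 36, 18, 62, 35]],
   [[62, 52, 16, 12, 20, 7], [43, 31, 20, 28, 4, 18], [62, 50, 33, 6, 20, 8], [30, 43, 35, 32, 51, 26]],
   [[23, 6, 53, 58, 35, 11], [21, 46, 44, 27, 22, 43], [23, 3, 53, 1, 17, 60], [8, 10, 27, 44, 24, 15]],
   [[17, 48, 38, 15, 37, 43], [56, 44, 19, 15, 57, 59], [17, 50, 59, 47, 49, 22], [62, 44, 51, 56, 63, 17]],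
   [[40, 45, 47, 31, 8, 57], [60, 6, 63, 16, 29, 17], [40, 33, 18, 4, 57, 5], [40, 61, 8, 43, 57, 42]],
   [[44, 19, 29, 28, 25, 54], [12, 61, 20, 47, 51, 58], [44, 17, 18, 31, 11, 50], [41, 47, 51, 22, 43, 36]],
   [[33, 38, 13, 12, 18, 4], [12, 47, 32, 40, 63, 13], [33, 30, 21, 31, 46, 8], [10, 44, 23, 32, 25, 11]],
   [[54, 46, 51, 2, 58, 35], [51, 8, 54, 39, 36, 27], [54, 26, 20, 12, 29, 35], [37, 14, 57, 49, 61, 11]],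
   [[38, 45, 14, 17, 49, 36], [63, 33, 56, 29, 55, 24], [38, 8, 40, 34, 33, 25], [22, 14, 9, 2, 52, 6]],
   [[12, 53, 22, 23, 8, 32], [12, 42, 17, 16, 63, 32], [12, 17, 30, 41, 46, 40], [40, 47, 31, 30, 42, 62]],
   [[36, 53, 57, 46, 20, 35], [46, 50, 61, 59, 45, 60], [36, 7, 40, 51, 19, 10], [39, 60, 25, 28, 11, 24]],
   [[59, 16, 7, 47, 36, 53], [50, 61, 11, 23, 2, 27], [59, 42, 40, 27, 54, 36], [53, 6, 41, 13, 54, 9]],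
   [[15, 5, 17, 63, 2, 42], [46, 16, 44, 19, 42, 35], [15, 58, 60, 29, 19, 3], [25, 57, 63, 30, 48, 21]],
   [[7, 43, 40, 10, 2, 30], [22, 16, 7, 24, 47, 28], [7, 11, 47, 17, 8, 56], [45, 63, 19, 16, 37, 21]],
   [[12, 35, 34, 36, 5, 62], [6, 26, 22, 23, 37, 30], [12, 42, 22, 30, 47, 20], [31, 36, 13, 12, 45, 42]],
   [[9, 32, 58, 23, 59, 61], [20, 63, 15, 21, 44, 2], [9, 39, 22, 6, 60, 61], [48, 31, 23, 49, 12, 58]],
   [[41, 60, 61, 62, 16, 11], [6, 10, 21, 44, 16, 43], [41, 8, 11, 47, 31, 16], [59, 61, 52, 2, 32, 56]],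
   [[63, 43, 60, 17, 10, 56], [47, 42, 36, 58, 39, 61], [63, 61, 12, 8, 38, 37], [51, 3, 12, 8, 42, 31]],
   [[26, 8, 20, 59, 10, 50], [42, 18, 21, 2, 17, 35], [26, 34, 60, 10, 59, 57], [35, 48, 7, 56, 9, 50]]]

theorem chk6 : all2 (chk 6 C6) (enum 6) cert6 = true := by decide +kernel

variable {F : Type*} [Field F]

theorem charpoly_dec {m : ℕ} {g : F[X]} (hg : g.Monic) (hm : m = g.natDegree) {C : List ℕ}
    (h : ∀ i j : Fin m, bt F ((C.getD j 0).testBit i) =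
      if (j : ℕ) + 1 = m then -g.coeff i else if (i : ℕ) = j + 1 then 1 else 0) :
    (dec F m C).charpoly = g := by
  subst hm
  have : dec F g.natDegree C = Cfsg.Agent.H953.comp g := by
    ext i j
    rw [dec_apply, h]
    rfl
  rw [this]
  exact Cfsg.Agent.H953.charpoly_comp hg

theorem two_eq_zero (hF : ∀ x : F, x = 0 ∨ x = 1) : (2 : F) = 0 := by
  rcases hF 2 with h | h
  · exact h
  · exfalso
    have : (1 : F) = 0 := by linear_combination h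
    exact one_ne_zero this

theorem zero_or_one (h : Nat.card F = 2) : ∀ x : F, x = 0 ∨ x = 1 := by
  intro x
  haveI : Finite F := Nat.finite_of_card_ne_zero (by rw [h]; norm_num)
  letI := Fintype.ofFinite F
  rw [Nat.card_eq_fintype_card] at h
  classical
  by_contra hx
  push Not at hx
  have h1 : ({0, 1, x} : Finset F).card ≤ 2 := by rw [← h]; exact Finset.card_le_univ _
  rw [Finset.card_insert_of_notMem, Finset.card_insert_of_notMem, Finset.card_singleton] at h1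
  · omega
  · simpa using hx.2.symm
  · simp only [Finset.mem_insert, Finset.mem_singleton, not_or]
    exact ⟨zero_ne_one, hx.1.symm⟩

noncomputable def p3 (F : Type*) [Field F] : F[X] := X ^ 3 + X + 1
noncomputable def p4 (F : Type*) [Field F] : F[X] := X ^ 4 + X + 1
noncomputable def p5 (F : Type*) [Field F] : F[X] := X ^ 5 + X ^ 2 + 1
noncomputable def p6 (F : Type*) [Field F] : F[X] := X ^ 6 + X + 1

theorem p3_natDegree : (p3 F).natDegree = 3 := by unfold p3; compute_degree!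
theorem p4_natDegree : (p4 F).natDegree = 4 := by unfold p4; compute_degree!
theorem p5_natDegree : (p5 F).natDegree = 5 := by unfold p5; compute_degree!
theorem p6_natDegree : (p6 F).natDegree = 6 := by unfold p6; compute_degree!
theorem p3_monic : (p3 F).Monic := by unfold p3; monicity!
theorem p4_monic : (p4 F).Monic := by unfold p4; monicity!
theorem p5_monic : (p5 F).Monic := by unfold p5; monicity!
theorem p6_monic : (p6 F).Monic := by unfold p6; monicity!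

theorem neg_one' (h2 : (2 : F) = 0) : (-1 : F) = 1 := by linear_combination -h2

theorem charpoly_C3 (h2 : (2 : F) = 0) : (dec F 3 C3).charpoly = p3 F := by
  apply charpoly_dec p3_monic p3_natDegree.symm
  intro i j
  fin_cases i <;> fin_cases j <;> simp [C3, bt, p3, coeff_X, coeff_one, Nat.testBit, Nat.shiftRight_eq_div_pow, neg_one' h2]

theorem charpoly_C4 (h2 : (2 : F) = 0) : (dec F 4 C4).charpoly = p4 F := by
  apply charpoly_dec p4_monic p4_natDegree.symm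
  intro i j
  fin_cases i <;> fin_cases j <;> simp [C4, bt, p4, coeff_X, coeff_one, Nat.testBit, Nat.shiftRight_eq_div_pow, neg_one' h2]

theorem charpoly_C5 (h2 : (2 : F) = 0) : (dec F 5 C5).charpoly = p5 F := by
  apply charpoly_dec p5_monic p5_natDegree.symm
  intro i j
  fin_cases i <;> fin_cases j <;> simp [C5, bt, p5, coeff_X, coeff_X_pow, coeff_one, Nat.testBit, Nat.shiftRight_eq_div_pow, neg_one' h2]

theorem charpoly_C6 (h2 : (2 : F) = 0) : (dec F 6 C6).charpoly = p6 F := by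
  apply charpoly_dec p6_monic p6_natDegree.symm
  intro i j
  fin_cases i <;> fin_cases j <;> simp [C6, bt, p6, coeff_X, coeff_one, Nat.testBit, Nat.shiftRight_eq_div_pow, neg_one' h2]

/-- **`GL_3(2)`.** -/
theorem gl_two_three (h : Nat.card F = 2) (A : GL (Fin 3) F) (hA : 2 ≤ ((A : Matrix (Fin 3) (Fin 3) F) - 1).rank) :
    ∃ y : GL (Fin 3) F, (y : Matrix (Fin 3) (Fin 3) F).charpoly = p3 F ∧
      ((A * y : GL (Fin 3) F) : Matrix (Fin 3) (Fin 3) F).charpoly = p3 F := by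
  have hF := zero_or_one h
  have h2 := two_eq_zero hF
  rw [← charpoly_C3 h2]
  exact main hF h2 (C := C3) (C' := D3) rfl (by decide) chk3 A hA

/-- **`GL_4(2)`.** -/
theorem gl_two_four (h : Nat.card F = 2) (A : GL (Fin 4) F) (hA : 2 ≤ ((A : Matrix (Fin 4) (Fin 4) F) - 1).rank) :
    ∃ y : GL (Fin 4) F, (y : Matrix (Fin 4) (Fin 4) F).charpoly = p4 F ∧
      ((A * y : GL (Fin 4) F) : Matrix (Fin 4) (Fin 4) F).charpoly = p4 F := by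
  have hF := zero_or_one h
  have h2 := two_eq_zero hF
  rw [← charpoly_C4 h2]
  exact main hF h2 (C := C4) (C' := D4) rfl (by decide) chk4 A hA

/-- **`GL_5(2)`.** -/
theorem gl_two_five (h : Nat.card F = 2) (A : GL (Fin 5) F) (hA : 2 ≤ ((A : Matrix (Fin 5) (Fin 5) F) - 1).rank) :
    ∃ y : GL (Fin 5) F, (y : Matrix (Fin 5) (Fin 5) F).charpoly = p5 F ∧
      ((A * y : GL (Fin 5) F) : Matrix (Fin 5) (Fin 5) F).charpoly = p5 F := by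
  have hF := zero_or_one h
  have h2 := two_eq_zero hF
  rw [← charpoly_C5 h2]
  exact main hF h2 (C := C5) (C' := D5) rfl (by decide) chk5 A hA

/-- **`GL_6(2)`.** -/
theorem gl_two_six (h : Nat.card F = 2) (A : GL (Fin 6) F) (hA : 2 ≤ ((A : Matrix (Fin 6) (Fin 6) F) - 1).rank) :
    ∃ y : GL (Fin 6) F, (y : Matrix (Fin 6) (Fin 6) F).charpoly = p6 F ∧
      ((A * y : GL (Fin 6) F) : Matrix (Fin 6) (Fin 6) F).charpoly = p6 F := by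
  have hF := zero_or_one h
  have h2 := two_eq_zero hF
  rw [← charpoly_C6 h2]
  exact main hF h2 (C := C6) (C' := D6) rfl (by decide) chk6 A hA

end Cfsg.Agent.H194.GLTwo
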