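import Mathlib
import Cfsg.Agent.H194.GLTwoCert

/-!
# Irreducibility over the field with two elements by one orbit of the companion matrix

`irr_of_orb` : if the companion matrix of `g` acts transitively on the non-zero vectors then `g` is irreducible.
`p3_irreducible`, ..., `p6_irreducible`, `p3_ne_reverse`, ...
-/

set_option autoImplicit false

namespace Cfsg.Agent.H194.GLTwo

open Polynomial

variable {F : Type*} [Field F]

def vec (F : Type*) [Field F] (m n : ℕ) : Fin m → F := fun i => bt F (n.testBit i)

theorem dec_mulVec (h2 : (2 : F) = 0) {m : ℕ} {C : List ℕ} (hC : C.length = m) (n : ℕ) :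
    (dec F m C).mulVec (vec F m n) = vec F m (app C n) := by
  funext i
  rw [vec, bt_app h2, Matrix.mulVec, dotProduct, hC, Finset.sum_range]
  refine Finset.sum_congr rfl fun s _ => ?_
  rw [dec_apply, vec, mul_comm]

theorem dec_pow_mulVec (h2 : (2 : F) = 0) {m : ℕ} {C : List ℕ} (hC : C.length = m) (n k : ℕ) :
    (dec F m C ^ k).mulVec (vec F m n) = vec F m ((app C)^[k] n) := by
  induction k with
  | zero => simp
  | succ k ih =>
    rw [pow_succ', ← Matrix.mulVec_mulVec, ih, dec_mulVec h2 hC, Function.iterate_succ_apply']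

/-- the orbit of `n` -/
def orb (C : List ℕ) : ℕ → ℕ → List ℕ
  | 0, _ => []
  | k + 1, n => n :: orb C k (app C n)

theorem mem_orb {C : List ℕ} {k n x : ℕ} (h : x ∈ orb C k n) : ∃ j, x = (app C)^[j] n := by
  induction k generalizing n with
  | zero => simp [orb] at h
  | succ k ih =>
    rw [orb] at h
    rcases List.mem_cons.1 h with rfl | h
    · exact ⟨0, rfl⟩
    · obtain ⟨j, hj⟩ := ih h
      exact ⟨j + 1, by rw [hj]; rfl⟩

def chkOrb (m : ℕ) (C : List ℕ) : Bool :=
  (List.range (2 ^ m)).all fun n => Nat.beq n 0 || (orb C (2 ^ m) 1).any (Nat.beq n)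

theorem irr_of_orb (hF : ∀ x : F, x = 0 ∨ x = 1) (h2 : (2 : F) = 0) {m : ℕ} {g : F[X]} (hg : g.Monic)
    (hm : m = g.natDegree) (hm0 : 0 < m) {C C' : List ℕ} (hC : C.length = m) (hC' : mul C C' = one m)
    (h : ∀ i j : Fin m, bt F ((C.getD j 0).testBit i) =
      if (j : ℕ) + 1 = m then -g.coeff i else if (i : ℕ) = j + 1 then 1 else 0)
    (hc : chkOrb m C = true) : Irreducible g := by
  classical
  subst hm
  have hdec : dec F g.natDegree C = Cfsg.Agent.H953.comp g := by
    ext i j
    rw [dec_apply, h]
    rfl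
  set M := Cfsg.Agent.H953.comp g with hM
  have f4 : M * dec F g.natDegree C' = 1 := by rw [← hdec, ← dec_mul h2 hC, hC', dec_one]
  have f5 : dec F g.natDegree C' * M = 1 := by rw [mul_eq_one_comm]; exact f4
  have hinj : ∀ k : ℕ, ∀ x : Fin g.natDegree → F, (M ^ k).mulVec x = 0 → x = 0 := by
    intro k
    induction k with
    | zero => intro x hx; simpa using hx
    | succ k ih =>
      intro x hx
      rw [pow_succ, ← Matrix.mulVec_mulVec] at hx
      have h1 := ih _ hx
      have h3 : (dec F g.natDegree C').mulVec (M.mulVec x) = 0 := by rw [h1, Matrix.mulVec_zero]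
      rwa [Matrix.mulVec_mulVec, f5, Matrix.one_mulVec] at h3
  have horb : ∀ x : Fin g.natDegree → F, x ≠ 0 → ∃ k : ℕ, x = (M ^ k).mulVec (vec F g.natDegree 1) := by
    intro x hx
    set n := Nat.ofBits (fun j : Fin g.natDegree => decide (x j ≠ 0)) with hn
    have hxn : x = vec F g.natDegree n := by
      funext j
      rw [vec, hn, Nat.testBit_ofBits_lt _ _ j.2]
      rcases hF (x j) with h | h <;> simp [bt, h]
    have hnlt : n < 2 ^ g.natDegree := Nat.ofBits_lt_two_pow _
    rw [chkOrb, List.all_eq_true] at hc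
    have h1 := hc n (List.mem_range.2 hnlt)
    rw [Bool.or_eq_true, List.any_eq_true] at h1
    rcases h1 with h1 | ⟨y, hy, hny⟩
    · exfalso
      apply hx
      rw [hxn, Nat.eq_of_beq_eq_true h1]
      funext i
      simp [vec, bt]
    · obtain ⟨k, hk⟩ := mem_orb hy
      refine ⟨k, ?_⟩
      rw [← hdec, dec_pow_mulVec h2 hC, ← hk, ← Nat.eq_of_beq_eq_true hny, ← hxn]
  refine ⟨fun hu => ?_, fun a b hab => ?_⟩
  · rw [hg.isUnit_iff] at hu
    rw [hu, natDegree_one] at hm0
    exact lt_irrefl _ hm0
  · by_contra hcon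
    rw [not_or] at hcon
    have ha0 : a ≠ 0 := by rintro rfl; exact hg.ne_zero (by rw [hab, zero_mul])
    have hb0 : b ≠ 0 := by rintro rfl; exact hg.ne_zero (by rw [hab, mul_zero])
    have hda : 0 < a.natDegree := Polynomial.natDegree_pos_iff_degree_pos.2
      (Polynomial.degree_pos_of_ne_zero_of_nonunit ha0 hcon.1)
    have hdb : 0 < b.natDegree := Polynomial.natDegree_pos_iff_degree_pos.2
      (Polynomial.degree_pos_of_ne_zero_of_nonunit hb0 hcon.2)
    have hsum : g.natDegree = a.natDegree + b.natDegree := by rw [hab, natDegree_mul ha0 hb0]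
    have hbM : aeval M b ≠ 0 := by
      rw [hM, Ne, Cfsg.Agent.H953.aeval_comp_eq_zero hg]
      intro hd
      have := natDegree_le_of_dvd hd hb0
      omega
    obtain ⟨u, hu⟩ : ∃ u, (aeval M b).mulVec u ≠ 0 := by
      by_contra hcon
      push Not at hcon
      apply hbM
      ext i j
      have := congrFun (hcon (Pi.single j 1)) i
      simpa [Matrix.mulVec_single] using this
    have hcomm : ∀ (f : F[X]) (k : ℕ), aeval M f * M ^ k = M ^ k * aeval M f := by
      intro f k
      have h1 : M ^ k = aeval M (X ^ k : F[X]) := by rw [map_pow, aeval_X]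
      rw [h1, ← map_mul, ← map_mul, mul_comm]
    obtain ⟨k, hk⟩ := horb _ hu
    have h0 : (aeval M a).mulVec ((aeval M b).mulVec u) = 0 := by
      rw [Matrix.mulVec_mulVec, ← map_mul, ← hab, (Cfsg.Agent.H953.aeval_comp_eq_zero hg g).2 dvd_rfl,
        Matrix.zero_mulVec]
    rw [hk, Matrix.mulVec_mulVec, hcomm, ← Matrix.mulVec_mulVec] at h0
    have h1 := hinj k _ h0
    have haM : aeval M a = 0 := by
      ext i j
      have h3 : (aeval M a).mulVec (Pi.single j 1) = 0 := by
        obtain ⟨l, hl⟩ := horb (Pi.single j 1) (by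
          intro h
          have := congrFun h j
          simp at this)
        rw [hl, Matrix.mulVec_mulVec, hcomm, ← Matrix.mulVec_mulVec, h1, Matrix.mulVec_zero]
      have := congrFun h3 i
      simpa [Matrix.mulVec_single] using this
    rw [hM, Cfsg.Agent.H953.aeval_comp_eq_zero hg] at haM
    have := natDegree_le_of_dvd haM ha0
    omega

theorem p3_irreducible (h : Nat.card F = 2) : Irreducible (p3 F) := by
  have hF := zero_or_one h
  have h2 := two_eq_zero hF
  refine irr_of_orb hF h2 p3_monic p3_natDegree.symm (by norm_num) (C := C3) (C' := D3) rfl (by decide) ?_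
    (by decide +kernel)
  intro i j
  fin_cases i <;> fin_cases j <;> simp [C3, bt, p3, coeff_X, coeff_one, Nat.testBit, Nat.shiftRight_eq_div_pow, neg_one' h2]

theorem p4_irreducible (h : Nat.card F = 2) : Irreducible (p4 F) := by
  have hF := zero_or_one h
  have h2 := two_eq_zero hF
  refine irr_of_orb hF h2 p4_monic p4_natDegree.symm (by norm_num) (C := C4) (C' := D4) rfl (by decide) ?_
    (by decide +kernel)
  intro i j
  fin_cases i <;> fin_cases j <;> simp [C4, bt, p4, coeff_X, coeff_one, Nat.testBit, Nat.shiftRight_eq_div_pow, neg_one' h2]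

theorem p5_irreducible (h : Nat.card F = 2) : Irreducible (p5 F) := by
  have hF := zero_or_one h
  have h2 := two_eq_zero hF
  refine irr_of_orb hF h2 p5_monic p5_natDegree.symm (by norm_num) (C := C5) (C' := D5) rfl (by decide) ?_
    (by decide +kernel)
  intro i j
  fin_cases i <;> fin_cases j <;> simp [C5, bt, p5, coeff_X_pow, coeff_one, Nat.testBit, Nat.shiftRight_eq_div_pow, neg_one' h2]

theorem p6_irreducible (h : Nat.card F = 2) : Irreducible (p6 F) := by
  have hF := zero_or_one h
  have h2 := two_eq_zero hF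
  refine irr_of_orb hF h2 p6_monic p6_natDegree.symm (by norm_num) (C := C6) (C' := D6) rfl (by decide) ?_
    (by decide +kernel)
  intro i j
  fin_cases i <;> fin_cases j <;> simp [C6, bt, p6, coeff_X, coeff_one, Nat.testBit, Nat.shiftRight_eq_div_pow, neg_one' h2]

theorem p3_ne_reverse : p3 F ≠ (p3 F).reverse := by
  intro h
  have := congrArg (fun f : F[X] => f.coeff 1) h
  simp only [coeff_reverse, p3_natDegree] at this
  rw [Polynomial.revAt_le (by norm_num)] at this
  simp [p3, coeff_X, coeff_one] at this

theorem p4_ne_reverse : p4 F ≠ (p4 F).reverse := by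
  intro h
  have := congrArg (fun f : F[X] => f.coeff 1) h
  simp only [coeff_reverse, p4_natDegree] at this
  rw [Polynomial.revAt_le (by norm_num)] at this
  simp [p4, coeff_X, coeff_one] at this

theorem p5_ne_reverse : p5 F ≠ (p5 F).reverse := by
  intro h
  have := congrArg (fun f : F[X] => f.coeff 2) h
  simp only [coeff_reverse, p5_natDegree] at this
  rw [Polynomial.revAt_le (by norm_num)] at this
  simp [p5, coeff_X_pow, coeff_one] at this

theorem p6_ne_reverse : p6 F ≠ (p6 F).reverse := by
  intro h
  have := congrArg (fun f : F[X] => f.coeff 1) h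
  simp only [coeff_reverse, p6_natDegree] at this
  rw [Polynomial.revAt_le (by norm_num)] at this
  simp [p6, coeff_X, coeff_one] at this

end Cfsg.Agent.H194.GLTwo
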